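import Mathlib.LinearAlgebra.Matrix.Symmetric
import Mathlib.LinearAlgebra.Matrix.ToLin
import Mathlib.Algebra.BigOperators.Fin
import Mathlib.Tactic.Linarith
import Mathlib.Tactic.Ring
import Mathlib.Tactic.LinearCombination
import Mathlib.Data.Rat.Lemmas
import Mathlib.Algebra.Order.Field.Basic

/-!
# Connected symmetric matrices killing a positive vector
-/

namespace GrothLib.NumType

open Finset Matrix

variable {n : ℕ}

/-- No proper nonempty index set is orthogonal to its complement. -/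
def Conn {R : Type*} [Zero R] (A : Matrix (Fin n) (Fin n) R) : Prop :=
  ∀ I : Finset (Fin n), I.Nonempty → I ≠ univ → ∃ i ∈ I, ∃ j ∉ I, A i j ≠ 0

theorem Conn.univ_of_closed {R : Type*} [Zero R] {A : Matrix (Fin n) (Fin n) R} (h : Conn A)
    (p : Fin n → Prop) (hex : ∃ i, p i) (hcl : ∀ i j, p i → A i j ≠ 0 → p j) : ∀ i, p i := by
  classical
  intro i
  by_contra hi
  obtain ⟨i₀, h₀⟩ := hex
  obtain ⟨a, ha, b, hb, hab⟩ := h (univ.filter p) ⟨i₀, by simp [h₀]⟩
    (fun hu => hi (by have := Finset.eq_univ_iff_forall.mp hu i; simpa using this))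
  simp at ha hb
  exact hb (hcl a b ha hab)

/-- A nonnegative vector whose rows are nonnegative on its support is proportional to `m`. -/
theorem prop_of_nonneg_rows (A : Matrix (Fin n) (Fin n) ℤ) (m x : Fin n → ℤ)
    (hA : ∀ i j, i ≠ j → 0 ≤ A i j) (hconn : Conn A) (hm : ∀ i, 0 < m i) (hAm : A *ᵥ m = 0)
    (hx : ∀ i, 0 ≤ x i) (hne : ∃ i, x i ≠ 0) (hrow : ∀ i, x i ≠ 0 → 0 ≤ (A *ᵥ x) i) :
    (∀ i, 0 < x i) ∧ (∀ i j, x i * m j = x j * m i) ∧ A *ᵥ x = 0 := by
  obtain ⟨i₁, h₁⟩ := hne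
  obtain ⟨i₀, -, hmax⟩ := Finset.exists_max_image univ (fun i => (x i : ℚ) / m i) ⟨i₁, mem_univ _⟩
  have hmq : ∀ i, (0 : ℚ) < m i := fun i => by exact_mod_cast hm i
  have hz : ∀ j, 0 ≤ x i₀ * m j - m i₀ * x j := by
    intro j
    have h := hmax j (mem_univ _)
    rw [div_le_div_iff₀ (hmq j) (hmq i₀)] at h
    have : x j * m i₀ ≤ x i₀ * m j := by exact_mod_cast h
    linarith [mul_comm (x j) (m i₀)]
  have hpos0 : 0 < x i₀ := by
    rcases lt_or_eq_of_le (hx i₀) with h | h
    · exact h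
    · exfalso
      have h2 := hz i₁
      rw [← h] at h2
      have := mul_pos (hm i₀) (lt_of_le_of_ne (hx i₁) (Ne.symm h₁))
      linarith
  have hall : ∀ i, x i₀ * m i - m i₀ * x i = 0 := by
    apply hconn.univ_of_closed
    · exact ⟨i₀, by ring⟩
    intro i j hi hij
    have hxi : 0 < x i := by
      by_contra hc
      have h0 : x i = 0 := le_antisymm (not_lt.mp hc) (hx i)
      rw [h0] at hi
      have := mul_pos hpos0 (hm i)
      linarith
    have hsum : ∑ k, A i k * (x i₀ * m k - m i₀ * x k) = -(m i₀ * (A *ᵥ x) i) := by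
      have h0 : ∑ k, A i k * m k = 0 := congrFun hAm i
      calc ∑ k, A i k * (x i₀ * m k - m i₀ * x k)
          = x i₀ * ∑ k, A i k * m k - m i₀ * ∑ k, A i k * x k := by
            rw [Finset.mul_sum, Finset.mul_sum, ← Finset.sum_sub_distrib]
            exact Finset.sum_congr rfl fun k _ => by ring
        _ = _ := by rw [h0]; simp [Matrix.mulVec, dotProduct]
    have hterm : ∀ k ∈ (univ : Finset (Fin n)), 0 ≤ A i k * (x i₀ * m k - m i₀ * x k) := by
      intro k _
      rcases eq_or_ne i k with rfl | hk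
      · rw [hi, mul_zero]
      · exact mul_nonneg (hA i k hk) (hz k)
    have hle : ∑ k, A i k * (x i₀ * m k - m i₀ * x k) ≤ 0 := by
      rw [hsum]; have := mul_nonneg (hm i₀).le (hrow i hxi.ne'); linarith
    have := (Finset.sum_eq_zero_iff_of_nonneg hterm).mp
      (le_antisymm hle (Finset.sum_nonneg hterm)) j (mem_univ _)
    exact (mul_eq_zero.mp this).resolve_left hij
  have hxpos : ∀ i, 0 < x i := by
    intro i
    by_contra hc
    have h0 : x i = 0 := le_antisymm (not_lt.mp hc) (hx i)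
    have h := hall i
    rw [h0] at h
    have := mul_pos hpos0 (hm i)
    linarith
  refine ⟨hxpos, fun i j => ?_, ?_⟩
  · have h1 : m i₀ * (x i * m j - x j * m i) = 0 := by linear_combination (m i) * (hall j) - (m j) * (hall i)
    exact sub_eq_zero.mp ((mul_eq_zero.mp h1).resolve_left (hm i₀).ne')
  · funext i
    have h0 : ∑ k, A i k * m k = 0 := congrFun hAm i
    have h1 : m i₀ * ∑ k, A i k * x k = 0 := by
      calc m i₀ * ∑ k, A i k * x k = ∑ k, x i₀ * (A i k * m k) := by
            rw [Finset.mul_sum]; exact Finset.sum_congr rfl fun k _ => by linear_combination (-(A i k)) * hall k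
        _ = 0 := by rw [← Finset.mul_sum, h0, mul_zero]
    simpa [Matrix.mulVec, dotProduct] using (mul_eq_zero.mp h1).resolve_left (hm i₀).ne'

section Quad

variable {K : Type*} [Field K] [LinearOrder K] [IsStrictOrderedRing K]

omit [LinearOrder K] [IsStrictOrderedRing K] in
/-- The fundamental identity, written with `x i = y i * m i`. -/
theorem quad_identity (A : Matrix (Fin n) (Fin n) K) (hsymm : A.IsSymm) (m y : Fin n → K) :
    2 * ∑ i, ∑ j, A i j * (y i * m i) * (y j * m j) =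
      2 * (∑ i, y i ^ 2 * (m i * ∑ j, A i j * m j)) - ∑ i, ∑ j, A i j * m i * m j * (y i - y j) ^ 2 := by
  have hs : ∀ i j, A j i = A i j := fun i j => hsymm.apply i j
  have h1 : ∑ i, ∑ j, A i j * m i * m j * y j ^ 2 = ∑ i, ∑ j, A i j * m i * m j * y i ^ 2 := by
    rw [Finset.sum_comm]
    exact Finset.sum_congr rfl fun i _ => Finset.sum_congr rfl fun j _ => by rw [hs]; ring
  have h2 : ∑ i, y i ^ 2 * (m i * ∑ j, A i j * m j) = ∑ i, ∑ j, A i j * m i * m j * y i ^ 2 :=
    Finset.sum_congr rfl fun i _ => by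
      rw [Finset.mul_sum, Finset.mul_sum]; exact Finset.sum_congr rfl fun j _ => by ring
  have h3 : ∀ i j, A i j * m i * m j * (y i - y j) ^ 2 =
      A i j * m i * m j * y i ^ 2 + A i j * m i * m j * y j ^ 2
        - 2 * (A i j * (y i * m i) * (y j * m j)) := fun i j => by ring
  simp only [h3, Finset.sum_sub_distrib, Finset.sum_add_distrib, ← Finset.mul_sum]
  rw [h1, h2]; ring

/-- Nonpositivity of the quadratic form, with the precise equality information. -/
theorem quad_nonpos (A : Matrix (Fin n) (Fin n) K) (hsymm : A.IsSymm) (m : Fin n → K)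
    (hA : ∀ i j, i ≠ j → 0 ≤ A i j) (hm : ∀ i, 0 < m i) (hr : ∀ i, ∑ j, A i j * m j ≤ 0)
    (x : Fin n → K) :
    dotProduct x (A *ᵥ x) ≤ 0 ∧ (dotProduct x (A *ᵥ x) = 0 →
      (∀ i, x i ≠ 0 → ∑ j, A i j * m j = 0) ∧ ∀ i j, A i j ≠ 0 → x i / m i = x j / m j) := by
  set y : Fin n → K := fun i => x i / m i
  have hxy : ∀ i, y i * m i = x i := fun i => div_mul_cancel₀ _ (hm i).ne'
  have hq : dotProduct x (A *ᵥ x) = ∑ i, ∑ j, A i j * (y i * m i) * (y j * m j) := by
    simp only [hxy, dotProduct, Matrix.mulVec, Finset.mul_sum]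
    exact Finset.sum_congr rfl fun i _ => Finset.sum_congr rfl fun j _ => by ring
  have hid := quad_identity A hsymm m y
  have hneg : ∀ i ∈ (univ : Finset (Fin n)), y i ^ 2 * (m i * ∑ j, A i j * m j) ≤ 0 := fun i _ =>
    mul_nonpos_of_nonneg_of_nonpos (sq_nonneg _) (mul_nonpos_of_nonneg_of_nonpos (hm i).le (hr i))
  have hpos : ∀ i j, 0 ≤ A i j * m i * m j * (y i - y j) ^ 2 := by
    intro i j
    rcases eq_or_ne i j with rfl | h
    · simp
    · exact mul_nonneg (mul_nonneg (mul_nonneg (hA i j h) (hm i).le) (hm j).le) (sq_nonneg _)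
  have hpos' : ∀ i ∈ (univ : Finset (Fin n)), 0 ≤ ∑ j, A i j * m i * m j * (y i - y j) ^ 2 :=
    fun i _ => Finset.sum_nonneg fun j _ => hpos i j
  have hn1 := Finset.sum_nonpos hneg
  have hp1 := Finset.sum_nonneg hpos'
  refine ⟨by rw [hq]; linarith, fun h0 => ?_⟩
  rw [hq] at h0
  have e1 : ∑ i, y i ^ 2 * (m i * ∑ j, A i j * m j) = 0 := by linarith
  have e2 : ∑ i, ∑ j, A i j * m i * m j * (y i - y j) ^ 2 = 0 := by linarith
  refine ⟨fun i hxi => ?_, fun i j hij => ?_⟩
  · have h := (Finset.sum_eq_zero_iff_of_nonpos hneg).mp e1 i (mem_univ _)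
    have hy : y i ≠ 0 := div_ne_zero hxi (hm i).ne'
    simpa [hy, (hm i).ne'] using h
  · have h := (Finset.sum_eq_zero_iff_of_nonneg (fun j _ => hpos i j)).mp
      ((Finset.sum_eq_zero_iff_of_nonneg hpos').mp e2 i (mem_univ _)) j (mem_univ _)
    simpa [hij, (hm i).ne', (hm j).ne', sub_eq_zero] using h

end Quad

end GrothLib.NumType
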