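import Groth.Agent.Lib.NumType.Config

/-!
# Recognising the affine configurations
-/

namespace GrothLib.NumType

open Finset

variable {n : ℕ} {T : Models.NumericalType n}

set_option maxHeartbeats 400000
set_option linter.unusedSimpArgs false

theorem tbl_mul_zero {ω : ℕ → ℤ} {e : ℕ → ℕ → ℤ} {k l : ℕ} {x : ℤ} (hne : k ≠ l)
    (h1 : k < l → e k l = 0) (h2 : l < k → e l k = 0) : tbl ω e k l * x = 0 := by
  rcases hne.lt_or_gt with h | h
  · rw [tbl_of_lt ω e h, h1 h, zero_mul]
  · rw [tbl_of_gt ω e h, h2 h, zero_mul]

/-- `v 0, …, v (N-1)` is a path in the dual graph. -/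
structure IsPath (T : Models.NumericalType n) (v : ℕ → Fin n) (N : ℕ) : Prop where
  inj : Set.InjOn v {k | k < N}
  adj : ∀ k, k + 1 < N → Adj T (v k) (v (k + 1))

theorem IsPath.ne {v : ℕ → Fin n} {N : ℕ} (h : IsPath T v N) {k l : ℕ} (hk : k < N) (hl : l < N)
    (hkl : k ≠ l) : v k ≠ v l := fun he => hkl (h.inj hk hl he)

theorem IsPath.rev {v : ℕ → Fin n} {N : ℕ} (h : IsPath T v N) :
    IsPath T (fun k => v (N - 1 - k)) N := by
  refine ⟨fun a ha b hb he => ?_, fun k hk => ?_⟩
  · simp only [Set.mem_ofPred_eq] at ha hb
    have := h.inj (show N - 1 - a < N by omega) (show N - 1 - b < N by omega) he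
    omega
  · have := (h.adj (N - 1 - (k + 1)) (by omega)).symm
    rwa [show N - 1 - (k + 1) + 1 = N - 1 - k by omega] at this

theorem IsPath.window {v : ℕ → Fin n} {N : ℕ} (h : IsPath T v N) (s M : ℕ) (hs : s + M ≤ N) :
    IsPath T (fun k => v (s + k)) M := by
  refine ⟨fun a ha b hb he => ?_, fun k hk => ?_⟩
  · simp only [Set.mem_ofPred_eq] at ha hb
    have := h.inj (show s + a < N by omega) (show s + b < N by omega) he
    omega
  · have := h.adj (s + k) (by omega)
    rwa [show s + k + 1 = s + (k + 1) by omega] at this

/-- All listed vertices have self-intersection `-2 w`. -/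
def M2 (T : Models.NumericalType n) (v : ℕ → Fin n) (N : ℕ) : Prop :=
  ∀ k < N, T.a (v k) (v k) = -2 * T.w (v k)

theorem cfg_cyc {v : ℕ → Fin n} {N : ℕ} (hN : 3 ≤ N) (hp : IsPath T v N) (h2 : M2 T v N)
    (hclose : Adj T (v 0) (v (N - 1))) : N = n ∧ IsType T one one (tbl one (eCyc N)) := by
  refine isType_of_tbl N v one one _ hp.inj h2 (fun _ _ => one_pos) (fun _ _ => one_pos)
    ⟨0, by omega, rfl⟩ ⟨0, by omega, rfl⟩ (fun k hk => ?_) (fun k l hkl hl he => ?_)
  · rcases (show k = 0 ∨ k + 1 = N ∨ (0 < k ∧ k + 1 < N) by omega) with rfl | h | h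
    · rw [sum_range_three (p := 0) (q := 1) (r := N - 1) (by omega) (by omega) (by omega) (by omega)
        (by omega) (by omega) (fun l _ _ _ _ => tbl_mul_zero (by omega) (fun _ => by simp (disch := omega) only [eCyc, if_neg])
          (fun _ => by simp (disch := omega) only [eCyc, if_neg]))]
      simp (disch := omega) only [tbl_self, tbl_of_lt, tbl_of_gt, eCyc, one, if_pos, if_neg, true_and, and_true] <;>
        (try split_ifs) <;> omega
    · rw [sum_range_three (p := k - 1) (q := k) (r := 0) (by omega) (by omega) (by omega) (by omega)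
        (by omega) (by omega) (fun l _ _ _ _ => tbl_mul_zero (by omega) (fun _ => by simp (disch := omega) only [eCyc, if_neg])
          (fun _ => by simp (disch := omega) only [eCyc, if_neg]))]
      simp (disch := omega) only [tbl_self, tbl_of_lt, tbl_of_gt, eCyc, one, if_pos, if_neg, true_and, and_true] <;>
        (try split_ifs) <;> omega
    · rw [sum_range_three (p := k - 1) (q := k) (r := k + 1) (by omega) (by omega) (by omega) (by omega)
        (by omega) (by omega) (fun l _ _ _ _ => tbl_mul_zero (by omega) (fun _ => by simp (disch := omega) only [eCyc, if_neg])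
          (fun _ => by simp (disch := omega) only [eCyc, if_neg]))]
      simp (disch := omega) only [tbl_self, tbl_of_lt, tbl_of_gt, eCyc, one, if_pos, if_neg, true_and, and_true] <;>
        (try split_ifs) <;> omega
  · simp only [eCyc] at he ⊢
    split_ifs at he ⊢ with h1 h3
    · subst h1
      have := (hp.adj k hl).le_left; have := (hp.adj k hl).le_right
      simp only [one]; omega
    · obtain ⟨rfl, h3⟩ := h3
      obtain rfl : l = N - 1 := by omega
      have := hclose.le_left; have := hclose.le_right
      simp only [one]; omega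
    · exact absurd rfl he

theorem cfg_C2 {v : ℕ → Fin n} {N : ℕ} (hN : 3 ≤ N) (hp : IsPath T v N) (h2 : M2 T v N)
    (h0 : Dbl T (v 0) (v 1)) (h1 : Dbl T (v (N - 2)) (v (N - 1))) :
    N = n ∧ IsType T (cC2 N) (wC2 N) (tbl (wC2 N) (eC2 N)) := by
  refine isType_of_tbl N v _ _ _ hp.inj h2 (fun k _ => by unfold cC2; split_ifs <;> omega)
    (fun k _ => by unfold wC2; split_ifs <;> omega)
    ⟨N - 1, by omega, by unfold cC2; rw [if_neg (by omega)]⟩ ⟨0, by omega, rfl⟩
    (fun k hk => ?_) (fun k l hkl hl he => ?_)
  · rcases (show k = 0 ∨ k + 1 = N ∨ (0 < k ∧ k + 1 < N) by omega) with rfl | h | h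
    · rw [sum_range_two (p := 0) (q := 1) (by omega) (by omega) (by omega)
        (fun l _ _ _ => tbl_mul_zero (by omega) (fun _ => by simp (disch := omega) only [eC2, if_neg])
          (fun _ => by simp (disch := omega) only [eC2, if_neg]))]
      simp (disch := omega) only [tbl_self, tbl_of_lt, tbl_of_gt, eC2, wC2, cC2, if_pos, if_neg, true_and, and_true] <;>
        (try split_ifs) <;> omega
    · rw [sum_range_two (p := k - 1) (q := k) (by omega) (by omega) (by omega)
        (fun l _ _ _ => tbl_mul_zero (by omega) (fun _ => by simp (disch := omega) only [eC2, if_neg])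
          (fun _ => by simp (disch := omega) only [eC2, if_neg]))]
      simp (disch := omega) only [tbl_self, tbl_of_lt, tbl_of_gt, eC2, wC2, cC2, if_pos, if_neg, true_and, and_true] <;>
        (try split_ifs) <;> omega
    · rw [sum_range_three (p := k - 1) (q := k) (r := k + 1) (by omega) (by omega) (by omega) (by omega)
        (by omega) (by omega) (fun l _ _ _ _ => tbl_mul_zero (by omega) (fun _ => by simp (disch := omega) only [eC2, if_neg])
          (fun _ => by simp (disch := omega) only [eC2, if_neg]))]
      simp (disch := omega) only [tbl_self, tbl_of_lt, tbl_of_gt, eC2, wC2, cC2, if_pos, if_neg, true_and, and_true] <;>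
        (try split_ifs) <;> omega
  · have hl' : l = k + 1 := by simp only [eC2] at he; split_ifs at he with a b <;> omega
    subst hl'
    have := (hp.adj k hl).le_left; have := (hp.adj k hl).le_right
    rcases (show k = 0 ∨ k + 2 = N ∨ (0 < k ∧ k + 2 < N) by omega) with rfl | h | h
    · simp only [Nat.zero_add] at *
      have := h0.2
      simp (disch := omega) only [eC2, wC2, if_pos, if_neg, true_and, and_true, if_true, if_false] <;> omega
    · rw [show N - 2 = k by omega, show N - 1 = k + 1 by omega] at h1
      have := h1.2
      simp (disch := omega) only [eC2, wC2, if_pos, if_neg, true_and, and_true, if_true, if_false] <;> omega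
    · simp (disch := omega) only [eC2, wC2, if_pos, if_neg, true_and, and_true, if_true, if_false] <;> omega

theorem cfg_C3 {v : ℕ → Fin n} {N : ℕ} (hN : 3 ≤ N) (hp : IsPath T v N) (h2 : M2 T v N)
    (h0 : Dbl T (v 0) (v 1)) (h1 : Dbl T (v (N - 1)) (v (N - 2))) :
    N = n ∧ IsType T one (wC3 N) (tbl (wC3 N) (eC3 N)) := by
  refine isType_of_tbl N v _ _ _ hp.inj h2 (fun k _ => one_pos)
    (fun k _ => by unfold wC3; split_ifs <;> omega)
    ⟨0, by omega, rfl⟩ ⟨0, by omega, rfl⟩
    (fun k hk => ?_) (fun k l hkl hl he => ?_)
  · rcases (show k = 0 ∨ k + 1 = N ∨ (0 < k ∧ k + 1 < N) by omega) with rfl | h | h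
    · rw [sum_range_two (p := 0) (q := 1) (by omega) (by omega) (by omega)
        (fun l _ _ _ => tbl_mul_zero (by omega) (fun _ => by simp (disch := omega) only [eC3, if_neg])
          (fun _ => by simp (disch := omega) only [eC3, if_neg]))]
      simp (disch := omega) only [tbl_self, tbl_of_lt, tbl_of_gt, eC3, wC3, one, if_pos, if_neg, true_and, and_true] <;>
        (try split_ifs) <;> omega
    · rw [sum_range_two (p := k - 1) (q := k) (by omega) (by omega) (by omega)
        (fun l _ _ _ => tbl_mul_zero (by omega) (fun _ => by simp (disch := omega) only [eC3, if_neg])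
          (fun _ => by simp (disch := omega) only [eC3, if_neg]))]
      simp (disch := omega) only [tbl_self, tbl_of_lt, tbl_of_gt, eC3, wC3, one, if_pos, if_neg, true_and, and_true] <;>
        (try split_ifs) <;> omega
    · rw [sum_range_three (p := k - 1) (q := k) (r := k + 1) (by omega) (by omega) (by omega) (by omega)
        (by omega) (by omega) (fun l _ _ _ _ => tbl_mul_zero (by omega) (fun _ => by simp (disch := omega) only [eC3, if_neg])
          (fun _ => by simp (disch := omega) only [eC3, if_neg]))]
      simp (disch := omega) only [tbl_self, tbl_of_lt, tbl_of_gt, eC3, wC3, one, if_pos, if_neg, true_and, and_true] <;>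
        (try split_ifs) <;> omega
  · have hl' : l = k + 1 := by simp only [eC3] at he; split_ifs at he with a <;> omega
    subst hl'
    have := (hp.adj k hl).le_left; have := (hp.adj k hl).le_right
    rcases (show k = 0 ∨ k + 2 = N ∨ (0 < k ∧ k + 2 < N) by omega) with rfl | h | h
    · simp only [Nat.zero_add] at *
      have := h0.2
      simp (disch := omega) only [eC3, wC3, if_pos, if_neg, true_and, and_true, if_true, if_false] <;> omega
    · rw [show N - 2 = k by omega, show N - 1 = k + 1 by omega] at h1
      have := h1.2
      rw [a_comm] at this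
      simp (disch := omega) only [eC3, wC3, if_pos, if_neg, true_and, and_true, if_true, if_false] <;> omega
    · simp (disch := omega) only [eC3, wC3, if_pos, if_neg, true_and, and_true, if_true, if_false] <;> omega

theorem cfg_C4 {v : ℕ → Fin n} {N : ℕ} (hN : 3 ≤ N) (hp : IsPath T v N) (h2 : M2 T v N)
    (h0 : Dbl T (v 1) (v 0)) (h1 : Dbl T (v (N - 2)) (v (N - 1))) :
    N = n ∧ IsType T (cC4 N) (wC4 N) (tbl (wC4 N) (eC4 N)) := by
  refine isType_of_tbl N v _ _ _ hp.inj h2 (fun k _ => by unfold cC4; split_ifs <;> omega)
    (fun k _ => by unfold wC4; split_ifs <;> omega)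
    ⟨0, by omega, rfl⟩ ⟨1, by omega, by unfold wC4; simp [show 1 + 1 < N by omega]⟩
    (fun k hk => ?_) (fun k l hkl hl he => ?_)
  · rcases (show k = 0 ∨ k + 1 = N ∨ (0 < k ∧ k + 1 < N) by omega) with rfl | h | h
    · rw [sum_range_two (p := 0) (q := 1) (by omega) (by omega) (by omega)
        (fun l _ _ _ => tbl_mul_zero (by omega) (fun _ => by simp (disch := omega) only [eC4, if_neg])
          (fun _ => by simp (disch := omega) only [eC4, if_neg]))]
      simp (disch := omega) only [tbl_self, tbl_of_lt, tbl_of_gt, eC4, wC4, cC4, if_pos, if_neg, true_and, and_true] <;>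
        (try split_ifs) <;> omega
    · rw [sum_range_two (p := k - 1) (q := k) (by omega) (by omega) (by omega)
        (fun l _ _ _ => tbl_mul_zero (by omega) (fun _ => by simp (disch := omega) only [eC4, if_neg])
          (fun _ => by simp (disch := omega) only [eC4, if_neg]))]
      simp (disch := omega) only [tbl_self, tbl_of_lt, tbl_of_gt, eC4, wC4, cC4, if_pos, if_neg, true_and, and_true] <;>
        (try split_ifs) <;> omega
    · rw [sum_range_three (p := k - 1) (q := k) (r := k + 1) (by omega) (by omega) (by omega) (by omega)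
        (by omega) (by omega) (fun l _ _ _ _ => tbl_mul_zero (by omega) (fun _ => by simp (disch := omega) only [eC4, if_neg])
          (fun _ => by simp (disch := omega) only [eC4, if_neg]))]
      simp (disch := omega) only [tbl_self, tbl_of_lt, tbl_of_gt, eC4, wC4, cC4, if_pos, if_neg, true_and, and_true] <;>
        (try split_ifs) <;> omega
  · have hl' : l = k + 1 := by simp only [eC4] at he; split_ifs at he with a b c <;> omega
    subst hl'
    have := (hp.adj k hl).le_left; have := (hp.adj k hl).le_right
    rcases (show k = 0 ∨ k + 2 = N ∨ (0 < k ∧ k + 2 < N) by omega) with rfl | h | h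
    · simp only [Nat.zero_add] at *
      have := h0.2
      rw [a_comm] at this
      simp (disch := omega) only [eC4, wC4, if_pos, if_neg, true_and, and_true, if_true, if_false] <;> omega
    · rw [show N - 2 = k by omega, show N - 1 = k + 1 by omega] at h1
      have := h1.2
      simp (disch := omega) only [eC4, wC4, if_pos, if_neg, true_and, and_true, if_true, if_false] <;> omega
    · simp (disch := omega) only [eC4, wC4, if_pos, if_neg, true_and, and_true, if_true, if_false] <;> omega

theorem cfg_B5 {v : ℕ → Fin n} {N : ℕ} (hN : 4 ≤ N) (hinj : Set.InjOn v {k | k < N}) (h2 : M2 T v N)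
    (hadj : ∀ k, k + 2 < N → Adj T (v k) (v (k + 1))) (hbr : Adj T (v (N - 3)) (v (N - 1)))
    (h0 : Dbl T (v 1) (v 0)) :
    N = n ∧ IsType T (cB5 N) wB5 (tbl wB5 (eB5 N)) := by
  refine isType_of_tbl N v _ _ _ hinj h2 (fun k _ => by unfold cB5; split_ifs <;> omega)
    (fun k _ => by unfold wB5; split_ifs <;> omega)
    ⟨0, by omega, rfl⟩ ⟨1, by omega, rfl⟩
    (fun k hk => ?_) (fun k l hkl hl he => ?_)
  · rcases (show k = 0 ∨ k + 3 = N ∨ k + 2 = N ∨ k + 1 = N ∨ (0 < k ∧ k + 3 < N) by omega) with
      rfl | h | h | h | h
    · rw [sum_range_two (p := 0) (q := 1) (by omega) (by omega) (by omega)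
        (fun l _ _ _ => tbl_mul_zero (by omega) (fun _ => by simp (disch := omega) only [eB5, if_neg])
          (fun _ => by simp (disch := omega) only [eB5, if_neg]))]
      simp (disch := omega) only [tbl_self, tbl_of_lt, tbl_of_gt, eB5, wB5, cB5, if_pos, if_neg, true_and, and_true] <;>
        (try split_ifs) <;> omega
    · rw [sum_range_four (p := k - 1) (q := k) (r := k + 1) (s := k + 2) (by omega) (by omega)
        (by omega) (by omega) (by omega) (by omega) (by omega) (by omega) (by omega) (by omega)
        (fun l _ _ _ _ _ => tbl_mul_zero (by omega) (fun _ => by simp (disch := omega) only [eB5, if_neg])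
          (fun _ => by simp (disch := omega) only [eB5, if_neg]))]
      simp (disch := omega) only [tbl_self, tbl_of_lt, tbl_of_gt, eB5, wB5, cB5, if_pos, if_neg, true_and, and_true] <;>
        (try split_ifs) <;> omega
    · rw [sum_range_two (p := k - 1) (q := k) (by omega) (by omega) (by omega)
        (fun l _ _ _ => tbl_mul_zero (by omega) (fun _ => by simp (disch := omega) only [eB5, if_neg])
          (fun _ => by simp (disch := omega) only [eB5, if_neg]))]
      simp (disch := omega) only [tbl_self, tbl_of_lt, tbl_of_gt, eB5, wB5, cB5, if_pos, if_neg, true_and, and_true] <;>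
        (try split_ifs) <;> omega
    · rw [sum_range_two (p := k - 2) (q := k) (by omega) (by omega) (by omega)
        (fun l _ _ _ => tbl_mul_zero (by omega) (fun _ => by simp (disch := omega) only [eB5, if_neg])
          (fun _ => by simp (disch := omega) only [eB5, if_neg]))]
      simp (disch := omega) only [tbl_self, tbl_of_lt, tbl_of_gt, eB5, wB5, cB5, if_pos, if_neg, true_and, and_true] <;>
        (try split_ifs) <;> omega
    · rw [sum_range_three (p := k - 1) (q := k) (r := k + 1) (by omega) (by omega) (by omega) (by omega)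
        (by omega) (by omega) (fun l _ _ _ _ => tbl_mul_zero (by omega) (fun _ => by simp (disch := omega) only [eB5, if_neg])
          (fun _ => by simp (disch := omega) only [eB5, if_neg]))]
      simp (disch := omega) only [tbl_self, tbl_of_lt, tbl_of_gt, eB5, wB5, cB5, if_pos, if_neg, true_and, and_true] <;>
        (try split_ifs) <;> omega
  · have hl' : (l = k + 1 ∧ k + 2 < N) ∨ (k + 3 = N ∧ l + 1 = N) := by
      simp only [eB5] at he; split_ifs at he with a b c <;> omega
    rcases hl' with ⟨rfl, hk⟩ | ⟨hk, hl'⟩
    · have := (hadj k hk).le_left; have := (hadj k hk).le_right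
      rcases (show k = 0 ∨ 0 < k by omega) with rfl | h
      · simp only [Nat.zero_add] at *
        have := h0.2
        rw [a_comm] at this
        simp (disch := omega) only [eB5, wB5, if_pos, if_neg, true_and, and_true, if_true, if_false] <;> omega
      · simp (disch := omega) only [eB5, wB5, if_pos, if_neg, true_and, and_true, if_true, if_false] <;> omega
    · rw [show N - 3 = k by omega, show N - 1 = l by omega] at hbr
      have := hbr.le_left; have := hbr.le_right
      simp (disch := omega) only [eB5, wB5, if_pos, if_neg, true_and, and_true, if_true, if_false] <;> omega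

theorem cfg_B6 {v : ℕ → Fin n} {N : ℕ} (hN : 4 ≤ N) (hinj : Set.InjOn v {k | k < N}) (h2 : M2 T v N)
    (hadj : ∀ k, k + 2 < N → Adj T (v k) (v (k + 1))) (hbr : Adj T (v (N - 3)) (v (N - 1)))
    (h0 : Dbl T (v 0) (v 1)) :
    N = n ∧ IsType T (cB6 N) wB6 (tbl wB6 (eB6 N)) := by
  refine isType_of_tbl N v _ _ _ hinj h2 (fun k _ => by unfold cB6; split_ifs <;> omega)
    (fun k _ => by unfold wB6; split_ifs <;> omega)
    ⟨N - 1, by omega, by unfold cB6; rw [if_neg (by omega)]⟩ ⟨0, by omega, rfl⟩
    (fun k hk => ?_) (fun k l hkl hl he => ?_)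
  · rcases (show k = 0 ∨ k + 3 = N ∨ k + 2 = N ∨ k + 1 = N ∨ (0 < k ∧ k + 3 < N) by omega) with
      rfl | h | h | h | h
    · rw [sum_range_two (p := 0) (q := 1) (by omega) (by omega) (by omega)
        (fun l _ _ _ => tbl_mul_zero (by omega) (fun _ => by simp (disch := omega) only [eB6, if_neg])
          (fun _ => by simp (disch := omega) only [eB6, if_neg]))]
      simp (disch := omega) only [tbl_self, tbl_of_lt, tbl_of_gt, eB6, wB6, cB6, if_pos, if_neg, true_and, and_true] <;>
        (try split_ifs) <;> omega
    · rw [sum_range_four (p := k - 1) (q := k) (r := k + 1) (s := k + 2) (by omega) (by omega)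
        (by omega) (by omega) (by omega) (by omega) (by omega) (by omega) (by omega) (by omega)
        (fun l _ _ _ _ _ => tbl_mul_zero (by omega) (fun _ => by simp (disch := omega) only [eB6, if_neg])
          (fun _ => by simp (disch := omega) only [eB6, if_neg]))]
      simp (disch := omega) only [tbl_self, tbl_of_lt, tbl_of_gt, eB6, wB6, cB6, if_pos, if_neg, true_and, and_true] <;>
        (try split_ifs) <;> omega
    · rw [sum_range_two (p := k - 1) (q := k) (by omega) (by omega) (by omega)
        (fun l _ _ _ => tbl_mul_zero (by omega) (fun _ => by simp (disch := omega) only [eB6, if_neg])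
          (fun _ => by simp (disch := omega) only [eB6, if_neg]))]
      simp (disch := omega) only [tbl_self, tbl_of_lt, tbl_of_gt, eB6, wB6, cB6, if_pos, if_neg, true_and, and_true] <;>
        (try split_ifs) <;> omega
    · rw [sum_range_two (p := k - 2) (q := k) (by omega) (by omega) (by omega)
        (fun l _ _ _ => tbl_mul_zero (by omega) (fun _ => by simp (disch := omega) only [eB6, if_neg])
          (fun _ => by simp (disch := omega) only [eB6, if_neg]))]
      simp (disch := omega) only [tbl_self, tbl_of_lt, tbl_of_gt, eB6, wB6, cB6, if_pos, if_neg, true_and, and_true] <;>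
        (try split_ifs) <;> omega
    · rw [sum_range_three (p := k - 1) (q := k) (r := k + 1) (by omega) (by omega) (by omega) (by omega)
        (by omega) (by omega) (fun l _ _ _ _ => tbl_mul_zero (by omega) (fun _ => by simp (disch := omega) only [eB6, if_neg])
          (fun _ => by simp (disch := omega) only [eB6, if_neg]))]
      simp (disch := omega) only [tbl_self, tbl_of_lt, tbl_of_gt, eB6, wB6, cB6, if_pos, if_neg, true_and, and_true] <;>
        (try split_ifs) <;> omega
  · have hl' : (l = k + 1 ∧ k + 2 < N) ∨ (k + 3 = N ∧ l + 1 = N) := by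
      simp only [eB6] at he; split_ifs at he with a b <;> omega
    rcases hl' with ⟨rfl, hk⟩ | ⟨hk, hl'⟩
    · have := (hadj k hk).le_left; have := (hadj k hk).le_right
      rcases (show k = 0 ∨ 0 < k by omega) with rfl | h
      · simp only [Nat.zero_add] at *
        have := h0.2
        simp (disch := omega) only [eB6, wB6, if_pos, if_neg, true_and, and_true, if_true, if_false] <;> omega
      · simp (disch := omega) only [eB6, wB6, if_pos, if_neg, true_and, and_true, if_true, if_false] <;> omega
    · rw [show N - 3 = k by omega, show N - 1 = l by omega] at hbr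
      have := hbr.le_left; have := hbr.le_right
      simp (disch := omega) only [eB6, wB6, if_pos, if_neg, true_and, and_true, if_true, if_false] <;> omega

theorem cfg_D {v : ℕ → Fin n} {N : ℕ} (hN : 5 ≤ N) (hinj : Set.InjOn v {k | k < N}) (h2 : M2 T v N)
    (h02 : Adj T (v 0) (v 2))
    (hadj : ∀ k, 1 ≤ k → k + 2 < N → Adj T (v k) (v (k + 1))) (hbr : Adj T (v (N - 3)) (v (N - 1))) :
    N = n ∧ IsType T (cD N) one (tbl one (eD N)) := by
  refine isType_of_tbl N v _ _ _ hinj h2 (fun k _ => by unfold cD; split_ifs <;> omega)
    (fun k _ => one_pos) ⟨0, by omega, rfl⟩ ⟨0, by omega, rfl⟩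
    (fun k hk => ?_) (fun k l hkl hl he => ?_)
  · rcases (show k = 0 ∨ k = 1 ∨ (k = 2 ∧ N = 5) ∨ (k = 2 ∧ 5 < N) ∨ (k + 3 = N ∧ 5 < N) ∨
        k + 2 = N ∨ k + 1 = N ∨ (2 < k ∧ k + 3 < N) by omega) with
      rfl | rfl | ⟨rfl, rfl⟩ | ⟨rfl, h⟩ | ⟨h, h'⟩ | h | h | h
    · rw [sum_range_two (p := 0) (q := 2) (by omega) (by omega) (by omega)
        (fun l _ _ _ => tbl_mul_zero (by omega) (fun _ => by simp (disch := omega) only [eD, if_neg])
          (fun _ => by simp (disch := omega) only [eD, if_neg]))]
      simp (disch := omega) only [tbl_self, tbl_of_lt, tbl_of_gt, eD, one, cD, if_pos, if_neg, true_and, and_true] <;>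
        (try split_ifs) <;> omega
    · rw [sum_range_two (p := 1) (q := 2) (by omega) (by omega) (by omega)
        (fun l _ _ _ => tbl_mul_zero (by omega) (fun _ => by simp (disch := omega) only [eD, if_neg])
          (fun _ => by simp (disch := omega) only [eD, if_neg]))]
      simp (disch := omega) only [tbl_self, tbl_of_lt, tbl_of_gt, eD, one, cD, if_pos, if_neg, true_and, and_true] <;>
        (try split_ifs) <;> omega
    · decide
    · rw [sum_range_four (p := 0) (q := 1) (r := 2) (s := 3) (by omega) (by omega)
        (by omega) (by omega) (by omega) (by omega) (by omega) (by omega) (by omega) (by omega)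
        (fun l _ _ _ _ _ => tbl_mul_zero (by omega) (fun _ => by simp (disch := omega) only [eD, if_neg])
          (fun _ => by simp (disch := omega) only [eD, if_neg]))]
      simp (disch := omega) only [tbl_self, tbl_of_lt, tbl_of_gt, eD, one, cD, if_pos, if_neg, true_and, and_true] <;>
        (try split_ifs) <;> omega
    · rw [sum_range_four (p := k - 1) (q := k) (r := k + 1) (s := k + 2) (by omega) (by omega)
        (by omega) (by omega) (by omega) (by omega) (by omega) (by omega) (by omega) (by omega)
        (fun l _ _ _ _ _ => tbl_mul_zero (by omega) (fun _ => by simp (disch := omega) only [eD, if_neg])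
          (fun _ => by simp (disch := omega) only [eD, if_neg]))]
      simp (disch := omega) only [tbl_self, tbl_of_lt, tbl_of_gt, eD, one, cD, if_pos, if_neg, true_and, and_true] <;>
        (try split_ifs) <;> omega
    · rw [sum_range_two (p := k - 1) (q := k) (by omega) (by omega) (by omega)
        (fun l _ _ _ => tbl_mul_zero (by omega) (fun _ => by simp (disch := omega) only [eD, if_neg])
          (fun _ => by simp (disch := omega) only [eD, if_neg]))]
      simp (disch := omega) only [tbl_self, tbl_of_lt, tbl_of_gt, eD, one, cD, if_pos, if_neg, true_and, and_true] <;>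
        (try split_ifs) <;> omega
    · rw [sum_range_two (p := k - 2) (q := k) (by omega) (by omega) (by omega)
        (fun l _ _ _ => tbl_mul_zero (by omega) (fun _ => by simp (disch := omega) only [eD, if_neg])
          (fun _ => by simp (disch := omega) only [eD, if_neg]))]
      simp (disch := omega) only [tbl_self, tbl_of_lt, tbl_of_gt, eD, one, cD, if_pos, if_neg, true_and, and_true] <;>
        (try split_ifs) <;> omega
    · rw [sum_range_three (p := k - 1) (q := k) (r := k + 1) (by omega) (by omega) (by omega) (by omega)
        (by omega) (by omega) (fun l _ _ _ _ => tbl_mul_zero (by omega) (fun _ => by simp (disch := omega) only [eD, if_neg])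
          (fun _ => by simp (disch := omega) only [eD, if_neg]))]
      simp (disch := omega) only [tbl_self, tbl_of_lt, tbl_of_gt, eD, one, cD, if_pos, if_neg, true_and, and_true] <;>
        (try split_ifs) <;> omega
  · have hl' : (k = 0 ∧ l = 2) ∨ (l = k + 1 ∧ 1 ≤ k ∧ k + 2 < N) ∨ (k + 3 = N ∧ l + 1 = N) := by
      simp only [eD] at he; split_ifs at he with a b c d <;> omega
    rcases hl' with ⟨rfl, rfl⟩ | ⟨rfl, h1, hk⟩ | ⟨hk, hl'⟩
    · have := h02.le_left; have := h02.le_right
      simp (disch := omega) only [eD, one, if_pos, if_neg, true_and, and_true, if_true, if_false] <;> omega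
    · have := (hadj k h1 hk).le_left; have := (hadj k h1 hk).le_right
      simp (disch := omega) only [eD, one, if_pos, if_neg, true_and, and_true, if_true, if_false, ite_self] <;> omega
    · rw [show N - 3 = k by omega, show N - 1 = l by omega] at hbr
      have := hbr.le_left; have := hbr.le_right
      simp (disch := omega) only [eD, one, if_pos, if_neg, true_and, and_true, if_true, if_false] <;> omega

end GrothLib.NumType
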