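import Groth.Prelude.Def_Models
import Groth.Agent.Lib.NumType.Matrix
import Mathlib.Tactic.Positivity

/-!
# Elementary lemmas on numerical types
-/

namespace GrothLib.NumType

open Finset Matrix Models.NumericalType

variable {n : ℕ} (T : Models.NumericalType n)

theorem conn : Conn T.a := T.connected

theorem a_comm (i j : Fin n) : T.a i j = T.a j i := T.symm.apply j i

theorem row_sum (i : Fin n) : ∑ j, T.a i j * T.m j = 0 := congrFun T.mulVec_m i

/-- Adjacency in the dual graph. -/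
def Adj (i j : Fin n) : Prop := i ≠ j ∧ T.a i j ≠ 0

/-- `w i` times two is at most the intersection number. -/
def Dbl (i j : Fin n) : Prop := Adj T i j ∧ 2 * T.w i ≤ T.a i j

/-- `w i` times three is at most the intersection number. -/
def Trip (i j : Fin n) : Prop := Adj T i j ∧ 3 * T.w i ≤ T.a i j

variable {T} {i j : Fin n}

theorem Adj.ne (h : Adj T i j) : i ≠ j := h.1

theorem Adj.symm (h : Adj T i j) : Adj T j i := ⟨h.1.symm, by rw [a_comm]; exact h.2⟩

theorem Adj.pos (h : Adj T i j) : 0 < T.a i j :=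
  lt_of_le_of_ne (T.offDiag_nonneg i j h.1) (Ne.symm h.2)

theorem Adj.le_left (h : Adj T i j) : T.w i ≤ T.a i j := Int.le_of_dvd h.pos (T.w_dvd i j)

theorem Adj.le_right (h : Adj T i j) : T.w j ≤ T.a i j := by
  rw [a_comm]; exact h.symm.le_left

theorem adj_of_pos (hij : i ≠ j) (h : 0 < T.a i j) : Adj T i j := ⟨hij, h.ne'⟩

theorem eq_zero_of_not_adj (hij : i ≠ j) (h : ¬ Adj T i j) : T.a i j = 0 := by
  by_contra hc; exact h ⟨hij, hc⟩

theorem Adj.exists_mult (h : Adj T i j) : ∃ p : ℤ, 1 ≤ p ∧ T.a i j = T.w i * p := by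
  obtain ⟨p, hp⟩ := T.w_dvd i j
  refine ⟨p, ?_, hp⟩
  by_contra hc
  have := h.pos
  rw [hp] at this
  have := mul_nonpos_of_nonneg_of_nonpos (T.w_pos i).le (show p ≤ 0 by omega)
  omega

theorem Adj.eq_of_not_dbl (h : Adj T i j) (h2 : ¬ Dbl T i j) : T.a i j = T.w i := by
  obtain ⟨p, hp1, hp⟩ := h.exists_mult
  by_contra hc
  apply h2
  refine ⟨h, ?_⟩
  have h2p : 2 ≤ p := by
    by_contra hp2
    exact hc (by rw [hp, show p = 1 by omega, mul_one])
  rw [hp, mul_comm 2]
  exact mul_le_mul_of_nonneg_left h2p (T.w_pos i).le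

theorem Adj.eq_of_not_trip (h : Adj T i j) (h3 : ¬ Trip T i j) :
    T.a i j = T.w i ∨ T.a i j = 2 * T.w i := by
  obtain ⟨p, hp1, hp⟩ := h.exists_mult
  have hp3 : p < 3 := by
    by_contra hc
    refine h3 ⟨h, ?_⟩
    rw [hp, mul_comm 3]
    exact mul_le_mul_of_nonneg_left (by omega) (T.w_pos i).le
  rcases (show p = 1 ∨ p = 2 by omega) with rfl | rfl
  · left; rw [hp, mul_one]
  · right; rw [hp, mul_comm]

theorem Dbl.adj (h : Dbl T i j) : Adj T i j := h.1

theorem Trip.adj (h : Trip T i j) : Adj T i j := h.1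

theorem Trip.dbl (h : Trip T i j) : Dbl T i j := ⟨h.1, by have := T.w_pos i; have := h.2; omega⟩

/-- The row relation, given a finite set containing all neighbours. -/
theorem row_eq (s : Finset (Fin n)) (his : i ∉ s) (h : ∀ k, Adj T i k → k ∈ s) :
    T.a i i * T.m i + ∑ k ∈ s, T.a i k * T.m k = 0 := by
  rw [← Finset.sum_insert (f := fun k => T.a i k * T.m k) his]
  refine (Finset.sum_subset (Finset.subset_univ _) fun k _ hk => ?_).trans (row_sum T i)
  rw [Finset.mem_insert, not_or] at hk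
  rw [eq_zero_of_not_adj (Ne.symm hk.1) (fun hc => hk.2 (h k hc)), zero_mul]

/-- The row inequality. -/
theorem row_le (s : Finset (Fin n)) (his : i ∉ s) :
    T.a i i * T.m i + ∑ k ∈ s, T.a i k * T.m k ≤ 0 := by
  rw [← Finset.sum_insert (f := fun k => T.a i k * T.m k) his]
  refine le_trans (Finset.sum_le_sum_of_subset_of_nonneg (Finset.subset_univ _) fun k _ hk => ?_)
    (row_sum T i).le
  rw [Finset.mem_insert, not_or] at hk
  exact mul_nonneg (T.offDiag_nonneg i k (Ne.symm hk.1)) (T.m_pos k).le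

theorem exists_adj_out (s : Finset (Fin n)) (hs : s.Nonempty) (hu : s.card < n) :
    ∃ i ∈ s, ∃ j ∉ s, Adj T i j := by
  obtain ⟨i, hi, j, hj, h⟩ := T.connected s hs (fun h => by rw [h, card_univ, Fintype.card_fin] at hu; omega)
  exact ⟨i, hi, j, hj, fun h' => hj (h' ▸ hi), h⟩

theorem exists_adj (hn : 1 < n) (i : Fin n) : ∃ j, Adj T i j := by
  obtain ⟨k, hk, j, -, h⟩ := exists_adj_out (T := T) {i} (singleton_nonempty i) (by simpa using hn)
  rw [mem_singleton] at hk; subst hk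
  exact ⟨j, h⟩

variable (T)

/-- Being (up to a permutation and scaling) the numerical type given by a table. -/
def IsType (c ω : ℕ → ℤ) (α : ℕ → ℕ → ℤ) : Prop :=
  ∃ (σ : Equiv.Perm (Fin n)) (m W : ℤ), ∀ i : Fin n,
    T.m (σ i) = c i * m ∧ T.w (σ i) = ω i * W ∧ ∀ j : Fin n, T.a (σ i) (σ j) = α i j * W

variable {T}

/-- An affine configuration inside a numerical type fills all of it and determines it. -/
theorem isType_of_cfg (N : ℕ) (v : ℕ → Fin n) (c ω : ℕ → ℤ) (α : ℕ → ℕ → ℤ)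
    (hinj : Set.InjOn v {k | k < N})
    (hc : ∀ k < N, 0 < c k) (hω : ∀ k < N, 0 < ω k)
    (hc1 : ∃ k < N, c k = 1) (hω1 : ∃ k < N, ω k = 1)
    (hαs : ∀ k < N, ∀ l < N, α k l = α l k)
    (hrow : ∀ k < N, 0 ≤ ∑ l ∈ range N, α k l * c l)
    (hdiag : ∀ k < N, α k k = -2 * ω k ∧ T.a (v k) (v k) = -2 * T.w (v k))
    (hlb : ∀ k < N, ∀ l < N, k ≠ l → α k l * T.w (v k) ≤ ω k * T.a (v k) (v l)) :
    N = n ∧ IsType T c ω α := by
  classical
  set x : Fin n → ℤ := fun j => ∑ k ∈ range N, if v k = j then c k else 0 with hxdef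
  have hxv : ∀ l < N, x (v l) = c l := by
    intro l hl
    rw [hxdef]
    dsimp only
    rw [Finset.sum_eq_single l]
    · simp
    · intro k hk hkl
      rw [if_neg]
      exact fun h => hkl (hinj (mem_range.mp hk) hl h)
    · simp [hl]
  have hx0 : ∀ j, x j ≠ 0 → ∃ k < N, v k = j := by
    intro j hj
    obtain ⟨k, hk, hk'⟩ := Finset.exists_ne_zero_of_sum_ne_zero hj
    exact ⟨k, mem_range.mp hk, by by_contra h; simp [h] at hk'⟩
  have hxnn : ∀ j, 0 ≤ x j := fun j => Finset.sum_nonneg fun k hk => by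
    split
    · exact (hc k (mem_range.mp hk)).le
    · exact le_rfl
  have hmul : ∀ i, (T.a *ᵥ x) i = ∑ k ∈ range N, T.a i (v k) * c k := by
    intro i
    simp only [Matrix.mulVec, dotProduct, hxdef, Finset.mul_sum, mul_ite, mul_zero]
    rw [Finset.sum_comm]
    exact Finset.sum_congr rfl fun k _ => by simp
  have hterm : ∀ k < N, ∀ l < N, α k l * c l * T.w (v k) ≤ ω k * (T.a (v k) (v l) * c l) := by
    intro k hk l hl
    rcases eq_or_ne k l with rfl | hkl
    · rw [(hdiag k hk).1, (hdiag k hk).2]; apply le_of_eq; ring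
    · have := mul_le_mul_of_nonneg_right (hlb k hk l hl hkl) (hc l hl).le
      linarith
  have hsum : ∀ k < N, T.w (v k) * ∑ l ∈ range N, α k l * c l ≤ ω k * (T.a *ᵥ x) (v k) := by
    intro k hk
    rw [hmul, Finset.mul_sum, Finset.mul_sum]
    exact Finset.sum_le_sum fun l hl => by
      have := hterm k hk l (mem_range.mp hl); linarith
  obtain ⟨k₀, hk₀, hck₀⟩ := hc1
  obtain ⟨hpos, hprop, hAx⟩ := prop_of_nonneg_rows T.a T.m x T.offDiag_nonneg (conn T) T.m_pos
    T.mulVec_m hxnn ⟨v k₀, by rw [hxv k₀ hk₀, hck₀]; decide⟩ (fun i hi => by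
      obtain ⟨k, hk, rfl⟩ := hx0 i hi
      have h1 := le_trans (mul_nonneg (T.w_pos (v k)).le (hrow k hk)) (hsum k hk)
      exact nonneg_of_mul_nonneg_right h1 (hω k hk))
  have hsurj : ∀ j, ∃ k < N, v k = j := fun j => hx0 j (hpos j).ne'
  have hN : N = n := by
    have h : (range N).image v = univ := Finset.eq_univ_iff_forall.mpr fun j => by
      obtain ⟨k, hk, rfl⟩ := hsurj j
      exact mem_image_of_mem v (mem_range.mpr hk)
    have h2 := congrArg Finset.card h
    rwa [Finset.card_image_of_injOn (fun a ha b hb => hinj (mem_range.mp ha) (mem_range.mp hb)), card_range, card_univ, Fintype.card_fin] at h2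
  subst hN
  refine ⟨rfl, ?_⟩
  have heq : ∀ k < N, ∀ l < N, α k l * T.w (v k) = ω k * T.a (v k) (v l) := by
    intro k hk l hl
    have h0 : ω k * (T.a *ᵥ x) (v k) = 0 := by rw [hAx]; simp
    have h1 : T.w (v k) * ∑ l ∈ range N, α k l * c l = 0 := le_antisymm
      (by rw [← h0]; exact hsum k hk) (mul_nonneg (T.w_pos (v k)).le (hrow k hk))
    have hz : ∑ l ∈ range N, (ω k * (T.a (v k) (v l) * c l) - α k l * c l * T.w (v k)) = 0 := by
      rw [Finset.sum_sub_distrib, ← Finset.mul_sum, ← hmul, h0, ← Finset.sum_mul, mul_comm, h1, sub_zero]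
    have := (Finset.sum_eq_zero_iff_of_nonneg (fun l hl => sub_nonneg.mpr
      (hterm k hk l (mem_range.mp hl)))).mp hz l (mem_range.mpr hl)
    have h3 : c l * (α k l * T.w (v k) - ω k * T.a (v k) (v l)) = 0 := by linarith
    exact sub_eq_zero.mp ((mul_eq_zero.mp h3).resolve_left (hc l hl).ne')
  obtain ⟨b, hb, hωb⟩ := hω1
  have hw : ∀ j, ∃ k < N, v k = j ∧ T.w j = ω k * T.w (v b) := by
    apply (conn T).univ_of_closed
    · exact ⟨v b, b, hb, rfl, by rw [hωb, one_mul]⟩
    rintro i j ⟨k, hk, rfl, hwk⟩ hij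
    obtain ⟨l, hl, rfl⟩ := hsurj j
    refine ⟨l, hl, rfl, ?_⟩
    have e1 := heq k hk l hl
    have e2 := heq l hl k hk
    rw [← hαs k hk l hl, a_comm T (v l) (v k)] at e2
    have hα : α k l ≠ 0 := fun h => by
      rw [h, zero_mul] at e1; exact mul_ne_zero (hω k hk).ne' hij e1.symm
    have hz : α k l * (ω k * (T.w (v l) - ω l * T.w (v b))) = 0 := by
      linear_combination (ω k) * e2 - (ω l) * e1 + (α k l * ω l) * hwk
    have := (mul_eq_zero.mp ((mul_eq_zero.mp hz).resolve_left hα)).resolve_left (hω k hk).ne'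
    exact sub_eq_zero.mp this
  have hwv : ∀ k < N, T.w (v k) = ω k * T.w (v b) := by
    intro k hk
    obtain ⟨k', hk', he, hw'⟩ := hw (v k)
    rwa [hinj hk' hk he] at hw'
  refine ⟨Equiv.ofBijective (fun i : Fin N => v i) ((Fintype.bijective_iff_surjective_and_card _).mpr
    ⟨fun j => ?_, rfl⟩), T.m (v k₀), T.w (v b), fun i => ?_⟩
  · obtain ⟨k, hk, he⟩ := hsurj j
    exact ⟨⟨k, hk⟩, he⟩
  refine ⟨?_, hwv i i.2, fun j => ?_⟩
  · have := hprop (v i) (v k₀)
    rw [hxv _ i.2, hxv _ hk₀, hck₀, one_mul] at this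
    exact this.symm
  · have e := heq i i.2 j j.2
    rw [hwv i i.2] at e
    have hz : ω i * (T.a (v i) (v j) - α i j * T.w (v b)) = 0 := by linarith
    exact sub_eq_zero.mp ((mul_eq_zero.mp hz).resolve_left (hω i i.2).ne')

end GrothLib.NumType
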