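import Groth.Agent.Lib.NumType.Classify

/-!
# Proper subgraphs made of `(-2)`-indices
-/

namespace GrothLib.NumType

open Finset

variable {n : ℕ} {T : Models.NumericalType n}

theorem Adj.three_cases {i j : Fin n} (h : Adj T i j) (t1 : ¬ Trip T i j) (t2 : ¬ Trip T j i)
    (nd : ¬ (Dbl T i j ∧ Dbl T j i)) :
    (T.a i j = T.w i ∧ T.w i = T.w j) ∨ (T.a i j = 2 * T.w i ∧ T.w j = 2 * T.w i) ∨
      (T.a i j = 2 * T.w j ∧ T.w i = 2 * T.w j) := by
  rcases h.eq_of_not_trip t1 with a | a <;> rcases h.symm.eq_of_not_trip t2 with b | b <;>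
    rw [a_comm] at b
  · exact .inl ⟨a, a.symm.trans b⟩
  · exact .inr (.inr ⟨b, by omega⟩)
  · exact .inr (.inl ⟨a, by omega⟩)
  · exact absurd ⟨⟨h, a.ge⟩, h.symm, by rw [a_comm]; exact b.ge⟩ nd

/-- A finite family regarded as a sequence. -/
def seq {N : ℕ} (v : Fin N → Fin n) (h0 : 0 < N) (l : ℕ) : Fin n :=
  if h : l < N then v ⟨l, h⟩ else v ⟨0, h0⟩

theorem seq_val {N : ℕ} (v : Fin N → Fin n) (h0 : 0 < N) (j : Fin N) : seq v h0 j.val = v j := by
  simp [seq]

theorem seq_inj {N : ℕ} (v : Fin N ↪ Fin n) (h0 : 0 < N) :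
    Set.InjOn (seq v h0) {k | k < N} := by
  intro a ha b hb he
  simp only [Set.mem_ofPred_eq] at ha hb
  simp only [seq, dif_pos ha, dif_pos hb] at he
  simpa using v.injective he

theorem seq_m2 {N : ℕ} (v : Fin N → Fin n) (h0 : 0 < N) (hv : ∀ j, T.IsMinusTwo (v j)) :
    M2 T (seq v h0) N := fun k hk => by simpa [seq, dif_pos hk] using (hv ⟨k, hk⟩).2

theorem IsPath.of_le {v : ℕ → Fin n} {N M : ℕ} (h : IsPath T v N) (hM : M ≤ N) : IsPath T v M :=
  ⟨fun a ha b hb he => by
    simp only [Set.mem_ofPred_eq] at ha hb; exact h.idx he (by omega) (by omega),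
    fun k hk => h.adj k (by omega)⟩

/-- Non-consecutive vertices of a proper path are not joined. -/
theorem zero_of_proper_path {v : ℕ → Fin n} {N : ℕ} (hp : IsPath T v N) (h2 : M2 T v N) (hn : N < n)
    {a b : ℕ} (hab : a + 1 < b) (hb : b < N) : T.a (v a) (v b) = 0 := by
  refine eq_zero_of_not_adj (hp.ne (by omega) hb (by omega)) fun h => ?_
  have := (affine_of_chord hp h2 hab hb h).1
  omega

theorem ns_unique_of_proper_path {v : ℕ → Fin n} {N : ℕ} (hp : IsPath T v N) (h2 : M2 T v N)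
    (hn : N < n) {i j : ℕ} (hi : i + 1 < N) (hj : j + 1 < N) (h : NS T (v i) (v (i + 1)))
    (h' : NS T (v j) (v (j + 1))) : i = j := by
  by_contra hne
  rcases Ne.lt_or_gt hne with hl | hl
  · have := (affine_of_two_ns hp h2 hl hj h h').1; omega
  · have := (affine_of_two_ns hp h2 hl hi h' h).1; omega

theorem edge_of_proper_path {v : ℕ → Fin n} {N : ℕ} (hp : IsPath T v N) (h2 : M2 T v N) (hn : N < n)
    (hN : 3 ≤ N) {i : ℕ} (hi : i + 1 < N) :
    (T.a (v i) (v (i + 1)) = T.w (v i) ∧ T.w (v i) = T.w (v (i + 1))) ∨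
      (T.a (v i) (v (i + 1)) = 2 * T.w (v i) ∧ T.w (v (i + 1)) = 2 * T.w (v i)) ∨
      (T.a (v i) (v (i + 1)) = 2 * T.w (v (i + 1)) ∧ T.w (v i) = 2 * T.w (v (i + 1))) := by
  have key : ¬ (Trip T (v i) (v (i + 1)) ∨ Trip T (v (i + 1)) (v i)) := by
    intro h
    rcases (show 1 ≤ i ∨ i + 2 < N by omega) with hc | hc
    · have := (three_of_trip (hp.window (i - 1) 3 (by omega)) (fun k hk => h2 _ (by omega))
        (by rwa [show i - 1 + 1 = i by omega, show i - 1 + 2 = i + 1 by omega])).1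
      omega
    · have := (three_of_trip (hp.window i 3 (by omega)).rev (fun k hk => h2 _ (by omega))
        (by
          show Trip T (v (i + (3 - 1 - 1))) (v (i + (3 - 1 - 2))) ∨ Trip T (v (i + (3 - 1 - 2))) (v (i + (3 - 1 - 1)))
          simpa using h.symm)).1
      omega
  rw [not_or] at key
  refine (hp.adj i hi).three_cases key.1 key.2 (fun h => ?_)
  have := (two_of_dbl_dbl h.1 h.2 (h2 i (by omega)) (h2 (i + 1) hi)).1
  omega

theorem m_sum_le {i : Fin n} (hi : T.a i i = -2 * T.w i) (s : Finset (Fin n))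
    (hs : ∀ x ∈ s, T.a i x = T.w i) : ∑ x ∈ s, T.m x ≤ 2 * T.m i := by
  have his : i ∉ s := fun h => by have := hs i h; have := T.w_pos i; omega
  have := row_le (T := T) s his
  rw [hi, Finset.sum_congr rfl fun x hx => by rw [hs x hx], ← Finset.mul_sum] at this
  by_contra hc
  have := mul_pos (T.w_pos i) (show 0 < ∑ x ∈ s, T.m x - 2 * T.m i by omega)
  linarith

theorem row1_le {i x : Fin n} (hi : T.a i i = -2 * T.w i) (hix : i ≠ x) (p : ℤ)
    (hx : T.a i x = p * T.w i) : p * T.m x ≤ 2 * T.m i := by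
  have := row_le (T := T) (i := i) {x} (by simpa using hix)
  rw [sum_singleton, hi, hx] at this
  by_contra hc
  have := mul_pos (T.w_pos i) (show 0 < p * T.m x - 2 * T.m i by omega)
  linarith

theorem row2_le {i x y : Fin n} (hi : T.a i i = -2 * T.w i) (hix : i ≠ x) (hiy : i ≠ y) (hxy : x ≠ y)
    (p q : ℤ) (hx : T.a i x = p * T.w i) (hy : T.a i y = q * T.w i) :
    p * T.m x + q * T.m y ≤ 2 * T.m i := by
  have := row_le (T := T) (i := i) {x, y} (by simp [hix, hiy])
  rw [sum_pair hxy, hi, hx, hy] at this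
  by_contra hc
  have := mul_pos (T.w_pos i) (show 0 < p * T.m x + q * T.m y - 2 * T.m i by omega)
  linarith

theorem m3_le {i x y z : Fin n} (hi : T.a i i = -2 * T.w i) (hxy : x ≠ y) (hxz : x ≠ z) (hyz : y ≠ z)
    (hx : T.a i x = T.w i) (hy : T.a i y = T.w i) (hz : T.a i z = T.w i) :
    T.m x + T.m y + T.m z ≤ 2 * T.m i := by
  have := m_sum_le (T := T) hi {x, y, z} (by simp [hx, hy, hz])
  rw [sum_insert (by simp [hxy, hxz]), sum_pair hyz] at this
  linarith

theorem w_const_of_simple {v : ℕ → Fin n} {N : ℕ}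
    (h : ∀ i, i + 1 < N → T.w (v i) = T.w (v (i + 1))) : ∀ l < N, T.w (v l) = T.w (v 0) := by
  intro l hl
  induction l with
  | zero => rfl
  | succ l ih => rw [← h l hl, ih (by omega)]

/-- A proper subgraph consisting of a path with one pendant vertex is simply laced. -/
theorem fork_structure {v : ℕ → Fin n} {N : ℕ} (hp : IsPath T v N) (h2 : M2 T v N) {k : ℕ}
    {u : Fin n} (hu : ∀ l < N, v l ≠ u) (hu2 : T.a u u = -2 * T.w u) (hk : 1 ≤ k) (hk' : k + 1 < N)
    (hb : Adj T (v k) u) (hn : N + 1 < n) :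
    (∀ l < N, T.w (v l) = T.w (v 0)) ∧ T.w u = T.w (v 0) ∧
      (∀ i, i + 1 < N → T.a (v i) (v (i + 1)) = T.w (v 0)) ∧ T.a (v k) u = T.w (v 0) ∧
      (∀ a b, a + 1 < b → b < N → T.a (v a) (v b) = 0) ∧
      (∀ l < N, l ≠ k → T.a (v l) u = 0) := by
  have hs : ∀ i, i + 1 < N → ¬ NS T (v i) (v (i + 1)) := by
    intro i hi hns
    rcases le_or_gt k i with hki | hki
    · have := (affine_of_branch_ns hp h2 hu hu2 hk hki hi hb hns).1
      omega
    · have := (affine_of_branch_ns hp.rev (fun l hl => h2 _ (by omega)) (k := N - 1 - k)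
        (a := N - 2 - i) (fun l hl => hu _ (by omega)) hu2 (by omega) (by omega) (by omega)
        (by show Adj T (v (N - 1 - (N - 1 - k))) u; rwa [show N - 1 - (N - 1 - k) = k by omega])
        (by
          show NS T (v (N - 1 - (N - 2 - i))) (v (N - 1 - (N - 2 - i + 1)))
          rw [show N - 1 - (N - 2 - i) = i + 1 by omega, show N - 1 - (N - 2 - i + 1) = i by omega]
          exact hns.symm)).1
      omega
  have hnu : ¬ NS T (v k) u := fun h => by
    have := (affine_of_branch_edge_ns hp h2 hu hu2 hk hk' h).1; omega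
  have hw : ∀ l < N, T.w (v l) = T.w (v 0) :=
    w_const_of_simple fun i hi => ((hp.adj i hi).simple (hs i hi)).2
  refine ⟨hw, ?_, fun i hi => ?_, ?_, fun a b hab hbN => zero_of_proper_path hp h2 (by omega) hab hbN,
    fun l hl hlk => ?_⟩
  · rw [← (hb.simple hnu).2, hw k (by omega)]
  · rw [((hp.adj i hi).simple (hs i hi)).1, hw i (by omega)]
  · rw [(hb.simple hnu).1, hw k (by omega)]
  · refine eq_zero_of_not_adj (hu l hl) fun h => ?_
    have key : ∀ lo hi, lo < hi → hi < N → Adj T (v lo) u → Adj T (v hi) u → False := by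
      intro lo hi hlh hhi h1 h3
      have hw := (hp.window lo (hi + 1 - lo) (by omega)).snoc (u := u)
        (fun x _ => hu _ (by omega)) (fun _ => by
          show Adj T (v (lo + (hi + 1 - lo - 1))) u
          rwa [show lo + (hi + 1 - lo - 1) = hi by omega])
      have := (affine_of_chord hw (fun x _ => by
        split
        · exact h2 _ (by omega)
        · exact hu2) (a := 0) (b := hi + 1 - lo) (by omega) (by omega)
        (by simpa [show 0 < hi + 1 - lo by omega] using h1)).1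
      omega
    rcases hlk.lt_or_gt with h' | h'
    · exact key l k h' (by omega) h hb
    · exact key k l h' hl hb h

end GrothLib.NumType
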