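import Groth.Agent.Lib.NumType.Genus
import Groth.Agent.Lib.NumType.Sub

/-!
# Bounds on a minimal numerical type of genus at least two
-/

namespace GrothLib.NumType

open Finset

variable {n : ℕ} {T : Models.NumericalType n}

theorem offDiag_le_diag {i j : Fin n} (h : Adj T i j) : T.m i * T.a i j ≤ T.m j * |T.a j j| := by
  have hr := row_le (T := T) (i := j) {i} (by simpa using h.ne.symm)
  rw [Finset.sum_singleton, a_comm T j i] at hr
  have := mul_le_mul_of_nonneg_left (neg_le_abs (T.a j j)) (T.m_pos j).le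
  linarith

theorem diag_le_contrib (hn : 1 < n) (j : Fin n) (h1 : ¬ T.IsMinusOne j) (h2 : ¬ T.IsMinusTwo j) :
    1 ≤ contrib T j ∧ T.m j * |T.a j j| ≤ 3 * contrib T j ∧ (1 ≤ T.g j → 2 * (T.g j - 1) + 1 ≤ contrib T j) := by
  obtain ⟨p, hp, hpa⟩ := exists_diag_mult T hn j
  have hw := T.w_pos j; have hm := T.m_pos j
  have habs : |T.a j j| = T.w j * p := by
    rw [hpa, abs_neg, abs_of_pos (mul_pos hw (by omega))]
  have hc : contrib T j = (T.m j * T.w j) * (2 * T.g j + p - 2) := by
    unfold contrib; rw [hpa]; ring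
  have hU : 1 ≤ T.m j * T.w j := mul_pos hm hw
  have hg := T.g_nonneg j
  have hk : 1 ≤ 2 * T.g j + p - 2 := by
    by_contra h
    rcases (show p = 1 ∨ p = 2 by omega) with rfl | rfl
    · exact h1 ⟨by omega, by rw [hpa, mul_one]⟩
    · exact h2 ⟨by omega, by rw [hpa]; ring⟩
  have hle : 2 * T.g j + p - 2 ≤ (T.m j * T.w j) * (2 * T.g j + p - 2) :=
    le_mul_of_one_le_left (by omega) hU
  refine ⟨by omega, ?_, fun hg1 => by omega⟩
  have : T.m j * |T.a j j| = (T.m j * T.w j) * p := by rw [habs]; ring
  rw [this, hc]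
  calc (T.m j * T.w j) * p ≤ (T.m j * T.w j) * (3 * (2 * T.g j + p - 2)) :=
        mul_le_mul_of_nonneg_left (by omega) (by omega)
    _ = _ := by ring

theorem bounds_not_minusTwo (hmin : T.IsMinimal) (hn : 1 < n) (hg : 2 ≤ T.genus) (j : Fin n)
    (hj : ¬ T.IsMinusTwo j) :
    T.g j < T.genus ∧ T.m j * |T.a j j| ≤ 6 * T.genus - 6 ∧
      ∀ i, T.m i * T.a i j ≤ 6 * T.genus - 6 := by
  obtain ⟨h1, h2, h3⟩ := diag_le_contrib hn j (hmin j) hj
  have hsum := Finset.single_le_sum (fun i _ => contrib_nonneg T hn i (hmin i)) (Finset.mem_univ j)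
  have hG := two_genus T
  refine ⟨by omega, by omega, fun i => ?_⟩
  rcases eq_or_ne i j with rfl | hij
  · have := mul_neg_of_pos_of_neg (T.m_pos i) (diag_neg T hn i)
    omega
  · by_cases hadj : Adj T i j
    · have := offDiag_le_diag hadj; omega
    · rw [eq_zero_of_not_adj hij hadj, mul_zero]; omega

theorem lt_of_all_minusTwo {z : Fin n} (hz : ¬ T.IsMinusTwo z) {f : ℕ → Fin n} {N : ℕ}
    (hf : Set.InjOn f {k | k < N}) (h : ∀ k < N, T.IsMinusTwo (f k)) : N < n := by
  have h1 : ((range N).image f).card = N := by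
    rw [Finset.card_image_of_injOn (fun a ha b hb => hf (mem_range.mp ha) (mem_range.mp hb)), card_range]
  have h2 : (range N).image f ⊂ univ := by
    refine Finset.ssubset_iff_subset_ne.mpr ⟨subset_univ _, fun e => ?_⟩
    obtain ⟨k, hk, rfl⟩ := Finset.mem_image.mp (e.symm ▸ mem_univ z)
    exact hz (h k (mem_range.mp hk))
  have := Finset.card_lt_card h2
  rwa [h1, card_univ, Fintype.card_fin] at this

/-- `Reach T k x`: from the index `x` one gets to an index adjacent to a non-`(-2)`-index
in at most `k` steps through `(-2)`-indices. -/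
def Reach (T : Models.NumericalType n) : ℕ → Fin n → Prop
  | 0, x => T.IsMinusTwo x ∧ ∃ z, Adj T x z ∧ ¬ T.IsMinusTwo z
  | k + 1, x => Reach T k x ∨ (T.IsMinusTwo x ∧ ∃ y, Adj T x y ∧ Reach T k y)

theorem Reach.isMinusTwo {k : ℕ} {x : Fin n} (h : Reach T k x) : T.IsMinusTwo x := by
  induction k with
  | zero => exact h.1
  | succ k ih => exact h.elim ih And.left

theorem exists_reach (hmin : T.IsMinimal) (hn : 1 < n) (hg : 2 ≤ T.genus) (x : Fin n)
    (hx : T.IsMinusTwo x) : ∃ k, Reach T k x := by
  obtain ⟨z, hz⟩ : ∃ z, ¬ T.IsMinusTwo z := by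
    by_contra h
    push Not at h
    have hG := two_genus T
    have : ∑ i, contrib T i = 0 := Finset.sum_eq_zero fun i _ => by
      unfold contrib; rw [(h i).1, (h i).2]; ring
    omega
  refine ((conn T).univ_of_closed (fun x => T.IsMinusTwo x → ∃ k, Reach T k x)
    ⟨z, fun h => absurd h hz⟩ (fun i j hi hij hj => ?_)) x hx
  rcases eq_or_ne i j with rfl | hne
  · exact hi hj
  by_cases hi2 : T.IsMinusTwo i
  · obtain ⟨k, hk⟩ := hi hi2
    exact ⟨k + 1, .inr ⟨hj, i, Adj.symm ⟨hne, hij⟩, hk⟩⟩
  · exact ⟨0, hj, i, Adj.symm ⟨hne, hij⟩, hi2⟩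

/-- Within `k` steps of the boundary, `m w` is at most `2 ^ k B`. -/
theorem mw_le_of_reach {B : ℤ} (hB : 0 ≤ B)
    (hsrc : ∀ x z, Adj T x z → ¬ T.IsMinusTwo z → T.m x * T.a x z ≤ B) :
    ∀ (k : ℕ) (x : Fin n), Reach T k x → T.m x * T.w x ≤ 2 ^ k * B := by
  intro k
  induction k with
  | zero =>
    rintro x ⟨-, z, hxz, hz⟩
    have := mul_le_mul_of_nonneg_left hxz.le_left (T.m_pos x).le
    have := hsrc x z hxz hz
    rw [pow_zero, one_mul]; linarith
  | succ k ih =>
    intro x h
    have hp : (0 : ℤ) ≤ 2 ^ k * B := mul_nonneg (by positivity) hB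
    rw [pow_succ]
    rcases h with h | ⟨-, y, hxy, hy⟩
    · have := ih x h; linarith
    · have h1 := ih y hy
      have h2 := offDiag_le_diag hxy
      rw [hy.isMinusTwo.2, abs_of_neg (by have := T.w_pos y; omega)] at h2
      have h3 := mul_le_mul_of_nonneg_left hxy.le_left (T.m_pos x).le
      linarith

/-- Away from the boundary the function `m w` has no maximum nearer than any neighbour. -/
theorem exists_nearer (hmin : T.IsMinimal) (hn : 1 < n) (hg : 2 ≤ T.genus) (x : Fin n)
    (hx : T.IsMinusTwo x) (hfar : ¬ Reach T 6 x)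
    (hmax : ∀ y, T.IsMinusTwo y → T.m y * T.w y ≤ T.m x * T.w x)
    (d : ℕ) (hd : Reach T d x) (hdmin : ∀ k, k < d → ¬ Reach T k x) :
    ∃ y, T.IsMinusTwo y ∧ Reach T (d - 1) y ∧ T.m x * T.w x ≤ T.m y * T.w y := by
  classical
  -- minimal distances
  have hmono : ∀ {k l : ℕ} {a : Fin n}, k ≤ l → Reach T k a → Reach T l a := by
    intro k l a hkl h
    induction hkl with
    | refl => exact h
    | step _ ih => exact Or.inl ih
  have hd7 : 7 ≤ d := by
    by_contra h; exact hfar (hmono (by omega) hd)
  have hex : ∀ a, ∀ k, Reach T k a → (∀ l, l < k → ¬ Reach T l a) → 1 ≤ k →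
      ∃ b, Adj T a b ∧ Reach T (k - 1) b ∧ ∀ l, l < k - 1 → ¬ Reach T l b := by
    intro a k hk hmin' h1
    obtain ⟨k, rfl⟩ : ∃ l, k = l + 1 := ⟨k - 1, by omega⟩
    rcases hk with hk | ⟨ha, b, hab, hb⟩
    · exact absurd hk (hmin' k (by omega))
    · refine ⟨b, hab, hb, fun l hl hlb => hmin' (l + 1) (by omega) ?_⟩
      exact Or.inr ⟨ha, b, hab, hlb⟩
  -- the descending path of eight vertices
  have hchain : ∀ N, N ≤ 8 → ∃ v : ℕ → Fin n, v 0 = x ∧
      (∀ l, l < N → Reach T (d - l) (v l) ∧ (∀ k, k < d - l → ¬ Reach T k (v l))) ∧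
      (∀ l, l + 1 < N → Adj T (v l) (v (l + 1))) := by
    intro N
    induction N with
    | zero => exact fun _ => ⟨fun _ => x, rfl, by simp, by simp⟩
    | succ N ih =>
      intro hN
      obtain ⟨v, hv0, hv1, hv2⟩ := ih (by omega)
      rcases Nat.eq_zero_or_pos N with rfl | hN0
      · exact ⟨fun _ => x, rfl, fun l hl => by
          obtain rfl : l = 0 := by omega
          exact ⟨by simpa using hd, by simpa using hdmin⟩, fun l hl => absurd hl (by omega)⟩
      obtain ⟨h1, h2⟩ := hv1 (N - 1) (by omega)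
      obtain ⟨b, hab, hb, hb'⟩ := hex _ _ h1 h2 (by omega)
      refine ⟨fun l => if l < N then v l else b, by simp [hN0, hv0], fun l hl => ?_, fun l hl => ?_⟩
      · dsimp only
        rcases (show l < N ∨ l = N by omega) with h | rfl
        · rw [if_pos h]; exact hv1 l h
        · rw [if_neg (by omega)]
          rw [show d - (l - 1) - 1 = d - l by omega] at hb hb'
          exact ⟨hb, hb'⟩
      · dsimp only
        rcases (show l + 1 < N ∨ l + 1 = N by omega) with h | rfl
        · rw [if_pos (by omega), if_pos h]; exact hv2 l h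
        · rw [if_pos (by omega), if_neg (by omega)]; simpa using hab
  obtain ⟨v, hv0, hv1, hv2⟩ := hchain 8 le_rfl
  have hvd : ∀ a b, a < 8 → b < 8 → v a = v b → a ≤ b := by
    intro a b ha hb he
    by_contra hlt
    exact (hv1 b hb).2 (d - a) (by omega) (he ▸ (hv1 a ha).1)
  have hp : IsPath T v 8 := ⟨fun a ha b hb he =>
    le_antisymm (hvd a b ha hb he) (hvd b a hb ha he.symm), hv2⟩
  have hM : ∀ l < 8, T.IsMinusTwo (v l) := fun l hl => (hv1 l hl).1.isMinusTwo
  have h2' : M2 T v 8 := fun l hl => (hM l hl).2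
  obtain ⟨z, hz⟩ : ∃ z, ¬ T.IsMinusTwo z := by
    by_contra h
    push Not at h
    have hG := two_genus T
    have : ∑ i, contrib T i = 0 := Finset.sum_eq_zero fun i _ => by
      unfold contrib; rw [(h i).1, (h i).2]; ring
    omega
  have h8 : 8 < n := lt_of_all_minusTwo hz hp.inj hM
  -- all neighbours of `x` are (-2)-indices, none is on the path except `v 1`
  have hnb : ∀ y, Adj T x y → T.IsMinusTwo y := fun y hy => by
    by_contra hc
    exact hfar (hmono (Nat.zero_le _) (show Reach T 0 x from ⟨hx, y, hy, hc⟩))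
  have a01 : Adj T x (v 1) := hv0 ▸ hv2 0 (by omega)
  have hoff : ∀ y, Adj T x y → y ≠ v 1 → ∀ l < 8, v l ≠ y := by
    intro y hy hy1 l hl he
    rcases (show l = 0 ∨ l = 1 ∨ 2 ≤ l by omega) with rfl | rfl | hl2
    · exact hy.ne (hv0 ▸ he)
    · exact hy1 he.symm
    · have := zero_of_proper_path hp h2' h8 (a := 0) (b := l) (by omega) hl
      rw [hv0, he] at this
      exact hy.2 this
  refine ⟨v 1, hM 1 (by omega), (hv1 1 (by omega)).1, ?_⟩
  have hpos := mul_pos (T.m_pos x) (T.w_pos x)
  set z1 := v 1 with hz1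
  have hz1M : T.IsMinusTwo z1 := hM 1 (by omega)
  -- helper: paths and counts obtained by prepending a neighbour
  have hext : ∀ y, Adj T x y → y ≠ z1 →
      IsPath T (fun l => if l = 0 then y else v (l - 1)) 9 ∧
      M2 T (fun l => if l = 0 then y else v (l - 1)) 9 ∧ 9 < n ∧
      ∀ l < 9, T.IsMinusTwo (if l = 0 then y else v (l - 1)) := by
    intro y hy hy1
    have hq := hp.cons (u := y) (hoff y hy hy1) (fun _ => hv0 ▸ hy.symm)
    have hqM : ∀ l < 9, T.IsMinusTwo (if l = 0 then y else v (l - 1)) := fun l hl => by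
      split
      · exact hnb y hy
      · exact hM _ (by omega)
    exact ⟨hq, fun l hl => (hqM l hl).2, lt_of_all_minusTwo hz hq.inj hqM, hqM⟩
  by_cases h1 : ∀ y, Adj T x y → y = z1
  · -- an end
    have hr := row_eq (T := T) (i := x) {z1} (by simpa using a01.ne) (fun k hk => by simp [h1 k hk])
    rw [sum_singleton, hx.2] at hr
    have he := edge_of_proper_path hp h2' h8 (by omega) (i := 0) (by omega)
    rw [hv0] at he
    have hle : T.a x z1 ≤ 2 * T.w z1 := by
      show T.a x (v (0 + 1)) ≤ 2 * T.w (v (0 + 1))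
      have := T.w_pos x
      rcases he with ⟨e, e'⟩ | ⟨e, e'⟩ | ⟨e, e'⟩ <;> omega
    have := mul_le_mul_of_nonneg_right hle (T.m_pos z1).le
    linarith
  push Not at h1
  obtain ⟨y, hy, hy1⟩ := h1
  obtain ⟨hq, hq2, h9, hqM⟩ := hext y hy hy1
  -- the edge towards the boundary is simple
  have hs1 : ¬ NS T x z1 := fun hns => by
    have := (affine_of_interior_ns hq hq2 (i := 1) (by omega) (by omega) (by omega)
      (by simpa [hv0] using hns)).1
    omega
  have haz : T.a x z1 = T.w x ∧ T.w x = T.w z1 := a01.simple hs1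
  by_cases h2 : ∀ y', Adj T x y' → y' = z1 ∨ y' = y
  · have hr := row_eq (T := T) (i := x) {z1, y} (by simp [a01.ne, hy.ne])
      (fun k hk => by simpa using h2 k hk)
    rw [sum_pair hy1.symm, hx.2, haz.1] at hr
    have hyM := hnb y hy
    have hmy := hmax y hyM
    have he := edge_of_proper_path hq hq2 h9 (by omega) (i := 0) (by omega)
    simp only [if_true, Nat.zero_add, one_ne_zero, if_false, Nat.sub_self, hv0] at he
    rw [a_comm T x y] at hr
    rcases he with ⟨e, e'⟩ | ⟨e, e'⟩ | ⟨e, e'⟩
    · rw [← haz.2]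
      rw [e] at hr
      linarith
    · -- `y` is light: it must be a leaf
      have hyx : ∀ k, Adj T y k → k = x := by
        intro k hk
        by_contra hkx
        by_cases hkM : T.IsMinusTwo k
        · have hkoff : ∀ l < 9, (if l = 0 then y else v (l - 1)) ≠ k := by
            intro l hl he'
            rcases (show l = 0 ∨ l = 1 ∨ 2 ≤ l by omega) with rfl | rfl | hl2
            · exact hk.ne (by simpa using he')
            · exact hkx (by simpa [hv0] using he'.symm)
            · have := zero_of_proper_path hq hq2 h9 (a := 0) (b := l) (by omega) hl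
              rw [he'] at this
              simp only [if_true] at this
              exact hk.2 this
          have hr' := hq.cons (u := k) hkoff (fun _ => by simpa using hk.symm)
          have hrM : ∀ l < 9 + 1, T.IsMinusTwo
              (if l = 0 then k else if l - 1 = 0 then y else v (l - 1 - 1)) := fun l hl => by
            split
            · exact hkM
            · exact hqM _ (by omega)
          have h10 := lt_of_all_minusTwo hz hr'.inj hrM
          have := (affine_of_interior_ns hr' (fun l hl => (hrM l hl).2) (i := 1) (by omega) (by omega)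
            (by omega) (by simpa [hv0, NS] using (Or.inl ⟨hy.symm, e.ge⟩ : NS T y x))).1
          omega
        · exact hfar (hmono (by omega) (show Reach T 1 x from .inr ⟨hx, y, hy, hyM, k, hk, hkM⟩))
      have hry := row_eq (T := T) (i := y) {x} (by simpa using hy.ne.symm)
        (fun k hk => by simp [hyx k hk])
      rw [sum_singleton, hyM.2, e] at hry
      have hmxy : T.m x = T.m y := by
        have : T.w y * (T.m x - T.m y) = 0 := by linarith
        exact sub_eq_zero.mp ((mul_eq_zero.mp this).resolve_left (T.w_pos y).ne')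
      rw [e, ← e', ← hmxy] at hr
      rw [← haz.2]
      linarith
    · rw [e] at hr
      have := T.m_pos y
      rw [e'] at hmy
      rw [← haz.2]
      linarith
  push Not at h2
  obtain ⟨y', hy', hy'1, hy'y⟩ := h2
  -- any two further neighbours form a fork at the end of a long chain
  have pair : ∀ y y', Adj T x y → Adj T x y' → y ≠ z1 → y' ≠ z1 → y ≠ y' →
      10 < n ∧ T.a x y = T.w x ∧ 2 * T.m y = T.m x := by
    intro y y' hy hy' hy1 hy'1 hyy
    obtain ⟨hq, hq2, -, hqM⟩ := hext y hy hy1
    have hy'off : ∀ l < 9, (if l = 0 then y else v (l - 1)) ≠ y' := fun l hl => by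
      split
      · exact hyy
      · exact hoff y' hy' hy'1 _ (by omega)
    have h10 : 10 < n := by
      refine lt_of_all_minusTwo hz
        (f := fun l => if l < 9 then (if l = 0 then y else v (l - 1)) else y') ?_ ?_
      · intro a ha b hb he
        simp only [Set.mem_ofPred_eq] at ha hb
        dsimp only at he
        by_cases ha9 : a < 9 <;> by_cases hb9 : b < 9
        · rw [if_pos ha9, if_pos hb9] at he; exact hq.idx he ha9 hb9
        · rw [if_pos ha9, if_neg hb9] at he; exact absurd he (hy'off a ha9)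
        · rw [if_neg ha9, if_pos hb9] at he; exact absurd he.symm (hy'off b hb9)
        · omega
      · intro l hl
        by_cases hl9 : l < 9
        · rw [if_pos hl9]; exact hqM l hl9
        · rw [if_neg hl9]; exact hnb y' hy'
    obtain ⟨hwq, -, haq, -, hzq, hzu⟩ := fork_structure hq hq2 (k := 1) hy'off (hnb y' hy').2
      le_rfl (by omega) (by simpa [hv0] using hy') h10
    have hyw : T.w x = T.w y := by simpa [hv0] using hwq 1 (by omega)
    have hya : T.a y x = T.w y := by simpa [hv0] using haq 0 (by omega)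
    refine ⟨h10, by rw [a_comm, hya, hyw], ?_⟩
    have hyx : ∀ k, Adj T y k → k = x := by
      intro k hk
      by_contra hkx
      by_cases hkM : T.IsMinusTwo k
      · have hkoff : ∀ l < 9, (if l = 0 then y else v (l - 1)) ≠ k := by
          intro l hl he'
          rcases (show l = 0 ∨ l = 1 ∨ 2 ≤ l by omega) with rfl | rfl | hl2
          · exact hk.ne (by simpa using he')
          · exact hkx (by simpa [hv0] using he'.symm)
          · have := hzq 0 l (by omega) hl
            rw [he'] at this
            simp only [if_true] at this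
            exact hk.2 this
        have hky' : k ≠ y' := fun h => by
          have := hzu 0 (by omega) (by omega)
          simp only [if_true] at this
          exact hk.2 (h ▸ this)
        have hr := hq.cons (u := k) hkoff (fun _ => by simpa using hk.symm)
        have := (nine_of_far_branch hr (fun l hl => by
          split
          · exact hkM.2
          · exact hq2 _ (by omega))
          (u := y') (fun l hl => by
            split
            · exact hky'
            · exact hy'off _ (by omega))
          (hnb y' hy').2 (by omega) (by simpa [hv0] using hy')).1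
        omega
      · exact hfar (hmono (by omega)
          (show Reach T 1 x from .inr ⟨hx, y, hy, hnb y hy, k, hk, hkM⟩))
    have hry := row_eq (T := T) (i := y) {x} (by simpa using hy.ne.symm)
      (fun k hk => by simp [hyx k hk])
    rw [sum_singleton, (hnb y hy).2, hya] at hry
    have : T.w y * (T.m x - 2 * T.m y) = 0 := by linarith
    have := (mul_eq_zero.mp this).resolve_left (T.w_pos y).ne'
    omega
  obtain ⟨h10, hay, hmy⟩ := pair y y' hy hy' hy1 hy'1 (Ne.symm hy'y)
  obtain ⟨-, hay', hmy'⟩ := pair y' y hy' hy hy'1 hy1 hy'y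
  have honly : ∀ k, Adj T x k → k = z1 ∨ k = y ∨ k = y' := by
    intro k hk
    by_contra hc
    simp only [not_or] at hc
    have := (affine_of_two_branches hq hq2 (k := 1) (k' := 1) (u := y') (u' := k)
      (fun l hl => by
        split
        · exact Ne.symm hy'y
        · exact hoff y' hy' hy'1 _ (by omega))
      (fun l hl => by
        split
        · exact Ne.symm hc.2.1
        · exact hoff k hk hc.1 _ (by omega))
      (Ne.symm hc.2.2) (hnb y' hy').2 (hnb k hk).2 le_rfl le_rfl (by omega)
      (by simpa [hv0] using hy') (by simpa [hv0] using hk)).1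
    omega
  have hr := row_eq (T := T) (i := x) {z1, y, y'} (by simp [a01.ne, hy.ne, hy'.ne])
    (fun k hk => by simpa using honly k hk)
  rw [sum_insert (by simp [Ne.symm hy1, Ne.symm hy'1]), sum_pair (Ne.symm hy'y), hx.2, haz.1, hay, hay'] at hr
  rw [← haz.2]
  have : T.w x * (T.m z1 - T.m x) = 0 := by linear_combination hr - (T.w x) * (by linarith : T.m y + T.m y' - T.m x = 0)
  linarith

/-- The multiplicity times the weight of a `(-2)`-index is bounded. -/
theorem mw_le (hmin : T.IsMinimal) (hn : 1 < n) (hg : 2 ≤ T.genus) (x : Fin n) (hx : T.IsMinusTwo x) :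
    T.m x * T.w x ≤ 2 ^ 6 * (6 * T.genus - 6) := by
  classical
  have hsrc : ∀ a z, Adj T a z → ¬ T.IsMinusTwo z → T.m a * T.a a z ≤ 6 * T.genus - 6 :=
    fun a z _ hz => (bounds_not_minusTwo hmin hn hg z hz).2.2 a
  set S := univ.filter fun y => T.IsMinusTwo y
  obtain ⟨x₀, hx₀S, hx₀⟩ := Finset.exists_max_image S (fun y => T.m y * T.w y) ⟨x, by simp [S, hx]⟩
  have hx₀2 : T.IsMinusTwo x₀ := (mem_filter.mp hx₀S).2
  have hex : ∃ k, ∃ y, T.IsMinusTwo y ∧ T.m y * T.w y = T.m x₀ * T.w x₀ ∧ Reach T k y := by
    obtain ⟨k, hk⟩ := exists_reach hmin hn hg x₀ hx₀2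
    exact ⟨k, x₀, hx₀2, rfl, hk⟩
  obtain ⟨y, hy, hyeq, hreach⟩ := Nat.find_spec hex
  have hmax : ∀ u, T.IsMinusTwo u → T.m u * T.w u ≤ T.m y * T.w y := fun u hu => by
    rw [hyeq]; exact hx₀ u (by simp [S, hu])
  suffices h6 : Reach T 6 y from
    le_trans (hx₀ x (by simp [S, hx])) (by rw [← hyeq]; exact mw_le_of_reach (by omega) hsrc 6 y h6)
  by_contra hfar
  obtain ⟨u, hu, hur, hule⟩ := exists_nearer hmin hn hg y hy hfar hmax (Nat.find hex) hreach
    (fun k hk hr => Nat.find_min hex hk ⟨y, hy, hyeq, hr⟩)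
  rcases Nat.eq_zero_or_pos (Nat.find hex) with h0 | hpos
  · rw [h0] at hreach
    exact hfar (Or.inl (Or.inl (Or.inl (Or.inl (Or.inl (Or.inl hreach))))))
  · exact Nat.find_min hex (show Nat.find hex - 1 < Nat.find hex by omega)
      ⟨u, hu, le_antisymm (hx₀ u (by simp [S, hu])) (hyeq ▸ hule), hur⟩

/-- All entries `m i * |a i j|` are bounded. -/
theorem mul_abs_le (hmin : T.IsMinimal) (hg : 2 ≤ T.genus) (i j : Fin n) :
    T.m i * |T.a i j| ≤ 768 * T.genus := by
  rcases Nat.lt_or_ge 1 n with hn | hn
  · have hdiag : ∀ k, T.m k * |T.a k k| ≤ 768 * T.genus := fun k => by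
      by_cases hk : T.IsMinusTwo k
      · have := mw_le hmin hn hg k hk
        rw [hk.2, abs_of_neg (by have := T.w_pos k; omega)]
        norm_num at this
        linarith
      · have := (bounds_not_minusTwo hmin hn hg k hk).2.1
        omega
    rcases eq_or_ne i j with rfl | hij
    · exact hdiag i
    by_cases h : Adj T i j
    · rw [abs_of_pos h.pos]; exact le_trans (offDiag_le_diag h) (hdiag j)
    · rw [eq_zero_of_not_adj hij h, abs_zero, mul_zero]; omega
  · have : Subsingleton (Fin n) := Fin.subsingleton_iff_le_one.mpr hn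
    obtain rfl : i = j := Subsingleton.elim _ _
    have h0 := row_sum T i
    rw [Fintype.sum_eq_single i (fun k hk => absurd (Subsingleton.elim k i) hk)] at h0
    rw [(mul_eq_zero.mp h0).resolve_right (T.m_pos i).ne', abs_zero, mul_zero]; omega

end GrothLib.NumType
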