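import Groth.Agent.Lib.NumType.Combos

/-!
# A numerical type all of whose indices are `(-2)`-indices is affine
-/

namespace GrothLib.NumType

open Finset

variable {n : ℕ} {T : Models.NumericalType n}

theorem IsPath.snoc {v : ℕ → Fin n} {N : ℕ} (h : IsPath T v N) {u : Fin n} (hu : ∀ l < N, v l ≠ u)
    (hadj : 1 ≤ N → Adj T (v (N - 1)) u) : IsPath T (fun l => if l < N then v l else u) (N + 1) := by
  refine ⟨fun a ha b hb he => ?_, fun l hl => ?_⟩
  · simp only [Set.mem_ofPred_eq] at ha hb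
    try dsimp only at he
    split_ifs at he with c1 c2 c2
    · exact h.idx he c1 c2
    · exact absurd he (hu _ c1)
    · exact absurd he.symm (hu _ c2)
    · omega
  · try dsimp only
    rcases (show l + 1 < N ∨ l + 1 = N by omega) with hl' | rfl
    · rw [if_pos (by omega), if_pos hl']; exact h.adj l hl'
    · rw [if_pos (by omega), if_neg (by omega)]; simpa using hadj (by omega)

theorem IsPath.cons {v : ℕ → Fin n} {N : ℕ} (h : IsPath T v N) {u : Fin n} (hu : ∀ l < N, v l ≠ u)
    (hadj : 1 ≤ N → Adj T u (v 0)) : IsPath T (fun l => if l = 0 then u else v (l - 1)) (N + 1) := by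
  refine ⟨fun a ha b hb he => ?_, fun l hl => ?_⟩
  · simp only [Set.mem_ofPred_eq] at ha hb
    try dsimp only at he
    split_ifs at he with c1 c2 c2
    · omega
    · exact absurd he.symm (hu _ (by omega))
    · exact absurd he (hu _ (by omega))
    · have := h.idx he (by omega) (by omega); omega
  · try dsimp only
    rcases (show l = 0 ∨ 0 < l by omega) with rfl | hl'
    · simpa using hadj (by omega)
    · rw [if_neg (by omega), if_neg (by omega)]
      have := h.adj (l - 1) (by omega)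
      rwa [show l - 1 + 1 = l + 1 - 1 by omega] at this

theorem isPath_one (i : Fin n) : IsPath T (fun _ => i) 1 :=
  ⟨fun a ha b hb _ => by simp only [Set.mem_ofPred_eq] at ha hb; omega, fun _ h => absurd h (by omega)⟩

theorem isPath_two {i j : Fin n} (h : Adj T i j) :
    IsPath T (fun k => if k = 0 then i else j) 2 :=
  (isPath_one j).cons (fun _ _ => h.ne.symm) (fun _ => h)

theorem isPath_three {i j k : Fin n} (h : Adj T i j) (h' : Adj T j k) (hik : i ≠ k) :
    IsPath T (fun l => if l = 0 then i else if l - 1 = 0 then j else k) 3 :=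
  (isPath_two h').cons (fun l _ => by (try dsimp only); split <;> [exact h.ne.symm; exact hik.symm])
    (fun _ => by simpa using h)

theorem IsPath.le {v : ℕ → Fin n} {N : ℕ} (h : IsPath T v N) : N ≤ n := by
  have := Finset.card_le_univ ((range N).image v)
  rwa [Finset.card_image_of_injOn (fun a ha b hb => h.inj (mem_range.mp ha) (mem_range.mp hb)),
    card_range, Fintype.card_fin] at this

theorem exists_third (hn : 3 ≤ n) (i j : Fin n) :
    ∃ k, k ≠ i ∧ k ≠ j ∧ (Adj T k i ∨ Adj T k j) := by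
  obtain ⟨a, ha, b, hb, h⟩ := exists_adj_out (T := T) {i, j} (insert_nonempty _ _)
    (lt_of_le_of_lt (card_le_two) (by omega))
  simp only [mem_insert, mem_singleton, not_or] at ha hb
  refine ⟨b, hb.1, hb.2, ?_⟩
  rcases ha with rfl | rfl
  exacts [.inl h.symm, .inr h.symm]

/-- Three indices or more: a triple edge forces `G₂`. -/
theorem affine_of_trip (hn : 3 ≤ n) {i j : Fin n} (h2 : ∀ k, T.a k k = -2 * T.w k)
    (h : Trip T i j) : n = 3 ∧ Affine T := by
  obtain ⟨k, hki, hkj, hk⟩ := exists_third (T := T) hn i j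
  rcases hk with hk | hk
  · exact three_of_trip (isPath_three hk h.adj hkj) (fun _ _ => h2 _) (.inl (by simpa using h))
  · exact three_of_trip (isPath_three hk h.adj.symm hki) (fun _ _ => h2 _) (.inr (by simpa using h))

theorem affine_of_card_two (T : Models.NumericalType 2) (h2 : ∀ k, T.a k k = -2 * T.w k) : Affine T := by
  obtain ⟨j, hj⟩ := exists_adj (T := T) (by norm_num) 0
  obtain rfl : j = 1 := by
    fin_cases j
    · exact absurd rfl hj.ne
    · rfl
  obtain ⟨p, hp, hpa⟩ := hj.exists_mult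
  obtain ⟨q, hq, hqa⟩ := hj.symm.exists_mult
  have r0 := row_eq (T := T) (i := 0) {1} (by decide) (fun k hk => by
    fin_cases k
    · exact absurd rfl hk.ne
    · simp)
  have r1 := row_eq (T := T) (i := 1) {0} (by decide) (fun k hk => by
    fin_cases k
    · simp
    · exact absurd rfl hk.ne)
  rw [sum_singleton, h2, hpa] at r0
  rw [sum_singleton, h2, hqa] at r1
  have e0 : p * T.m 1 = 2 * T.m 0 := by
    have : T.w 0 * (p * T.m 1 - 2 * T.m 0) = 0 := by linarith
    exact sub_eq_zero.mp ((mul_eq_zero.mp this).resolve_left (T.w_pos 0).ne')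
  have e1 : q * T.m 0 = 2 * T.m 1 := by
    have : T.w 1 * (q * T.m 0 - 2 * T.m 1) = 0 := by linarith
    exact sub_eq_zero.mp ((mul_eq_zero.mp this).resolve_left (T.w_pos 1).ne')
  have hpq : p * q = 4 := by
    have : T.m 0 * (p * q - 4) = 0 := by linear_combination p * e1 + 2 * e0
    exact sub_eq_zero.mp ((mul_eq_zero.mp this).resolve_left (T.m_pos 0).ne')
  have hp4 : p ≤ 4 := by
    have := mul_le_mul_of_nonneg_left hq (show (0 : ℤ) ≤ p by omega); omega
  interval_cases p
  · obtain ⟨e, hT⟩ := cfg_A1b (isPath_two hj.symm) (fun _ _ => h2 _)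
      (by simpa [hqa, show q = 4 by omega] using le_of_eq (mul_comm 4 (T.w 1)))
    exact .a1b rfl hT
  · obtain ⟨e, hT⟩ := cfg_A1a (isPath_two hj) (fun _ _ => h2 _)
      (by exact ⟨hj, le_of_eq (show 2 * T.w 0 = T.a 0 1 by rw [hpa]; ring)⟩)
      (by exact ⟨hj.symm, le_of_eq (show 2 * T.w 1 = T.a 1 0 by rw [hqa, show q = 2 by omega]; ring)⟩)
    exact .a1a rfl hT
  · omega
  · obtain ⟨e, hT⟩ := cfg_A1b (isPath_two hj) (fun _ _ => h2 _)
      (by simpa [hpa] using le_of_eq (mul_comm 4 (T.w 0)))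
    exact .a1b rfl hT

/-- The row relation at a vertex of valency one. -/
theorem row_one {i x : Fin n} (h2 : ∀ k, T.a k k = -2 * T.w k) (hx : Adj T i x)
    (h : ∀ k, Adj T i k → k = x) : T.a i x * T.m x = 2 * T.w i * T.m i := by
  have := row_eq (T := T) (i := i) {x} (by simpa using hx.ne) (fun k hk => by simp [h k hk])
  rw [sum_singleton, h2] at this
  linarith

/-- The row relation at a vertex of valency two. -/
theorem row_two {i x y : Fin n} (h2 : ∀ k, T.a k k = -2 * T.w k) (hx : Adj T i x) (hy : Adj T i y)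
    (hxy : x ≠ y) (h : ∀ k, Adj T i k → k = x ∨ k = y) :
    T.a i x * T.m x + T.a i y * T.m y = 2 * T.w i * T.m i := by
  have := row_eq (T := T) (i := i) {x, y} (by simp [hx.ne, hy.ne]) (fun k hk => by simpa using h k hk)
  rw [sum_pair hxy, h2] at this
  linarith

theorem row_two_simple {i x y : Fin n} (h2 : ∀ k, T.a k k = -2 * T.w k) (hx : Adj T i x)
    (hy : Adj T i y) (sx : ¬ NS T i x) (sy : ¬ NS T i y)
    (hxy : x ≠ y) (h : ∀ k, Adj T i k → k = x ∨ k = y) : T.m x + T.m y = 2 * T.m i := by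
  have e := row_two h2 hx hy hxy h
  rw [(hx.simple sx).1, (hy.simple sy).1] at e
  have : T.w i * (T.m x + T.m y - 2 * T.m i) = 0 := by linarith
  exact sub_eq_zero.mp ((mul_eq_zero.mp this).resolve_left (T.w_pos i).ne')

theorem row_one_simple {i x : Fin n} (h2 : ∀ k, T.a k k = -2 * T.w k) (hx : Adj T i x)
    (sx : ¬ NS T i x) (h : ∀ k, Adj T i k → k = x) : T.m x = 2 * T.m i := by
  have e := row_one h2 hx h
  rw [(hx.simple sx).1] at e
  have : T.w i * (T.m x - 2 * T.m i) = 0 := by linarith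
  exact sub_eq_zero.mp ((mul_eq_zero.mp this).resolve_left (T.w_pos i).ne')

theorem linear_of_recurrence (M : ℕ → ℤ) (L : ℕ) (h0 : L = 0 ∨ M 1 = 2 * M 0)
    (h : ∀ j, 0 < j → j < L → M (j - 1) + M (j + 1) = 2 * M j) :
    ∀ j ≤ L, M j = ((j : ℤ) + 1) * M 0 := by
  intro j hj
  induction j using Nat.strong_induction_on with
  | _ j ih =>
    rcases (show j = 0 ∨ j = 1 ∨ 2 ≤ j by omega) with rfl | rfl | hj2
    · simp
    · rw [h0.resolve_left (by omega)]; norm_num
    · obtain ⟨i, rfl⟩ : ∃ i, j = i + 2 := ⟨j - 2, by omega⟩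
      have a := ih i (by omega) (by omega)
      have b := ih (i + 1) (by omega) (by omega)
      have c := h (i + 1) (by omega) (by omega)
      simp only [Nat.add_sub_cancel] at c
      push_cast at a b c ⊢
      linarith

/-- An edge in a type without triple or doubly double edges. -/
theorem exists_pq {i j : Fin n} (nT : ∀ a b, ¬ Trip T a b) (nD : ∀ a b, ¬ (Dbl T a b ∧ Dbl T b a))
    (h : Adj T i j) : ∃ P Q : ℤ, T.a i j = P * T.w i ∧ T.a j i = Q * T.w j ∧
      ((P = 1 ∧ Q = 1) ∨ (P = 1 ∧ Q = 2) ∨ (P = 2 ∧ Q = 1)) := by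
  rcases h.eq_of_not_trip (nT i j) with a | a <;> rcases h.symm.eq_of_not_trip (nT j i) with b | b
  · exact ⟨1, 1, by rw [a, one_mul], by rw [b, one_mul], .inl ⟨rfl, rfl⟩⟩
  · exact ⟨1, 2, by rw [a, one_mul], b, .inr (.inl ⟨rfl, rfl⟩)⟩
  · exact ⟨2, 1, a, by rw [b, one_mul], .inr (.inr ⟨rfl, rfl⟩)⟩
  · exact absurd ⟨⟨h, a.ge⟩, h.symm, b.ge⟩ (nD i j)

/-- A path exhausting the type with at most its last edge non-simple is impossible. -/
theorem no_end_path {v : ℕ → Fin n} {N : ℕ} (hp : IsPath T v N) (hN : 3 ≤ N)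
    (h2 : ∀ k, T.a k k = -2 * T.w k) (nT : ∀ a b, ¬ Trip T a b)
    (nD : ∀ a b, ¬ (Dbl T a b ∧ Dbl T b a))
    (hnb : ∀ k < N, ∀ x, Adj T (v k) x → ∃ l < N, x = v l ∧ (l + 1 = k ∨ k + 1 = l))
    (hs : ∀ k, k + 2 < N → ¬ NS T (v k) (v (k + 1))) : False := by
  have hlin := linear_of_recurrence (fun j => T.m (v j)) (N - 2) (.inr ?_) ?_
  · have e0 := hlin (N - 3) (by omega)
    have e1 := hlin (N - 2) le_rfl
    have hadj := hp.adj (N - 2) (by omega)
    rw [show N - 2 + 1 = N - 1 by omega] at hadj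
    obtain ⟨P, Q, hP, hQ, hPQ⟩ := exists_pq nT nD hadj
    have hadj' := (hp.adj (N - 3) (by omega)).symm
    rw [show N - 3 + 1 = N - 2 by omega] at hadj'
    have rk := row_two h2 hadj' hadj (hp.ne (by omega) (by omega) (by omega)) (fun x hx => by
      obtain ⟨l, hl, rfl, h⟩ := hnb (N - 2) (by omega) x hx
      rcases h with h | h
      · left; rw [show l = N - 3 by omega]
      · right; rw [show l = N - 1 by omega])
    have rl := row_one h2 hadj.symm (fun x hx => by
      obtain ⟨l, hl, rfl, h⟩ := hnb (N - 1) (by omega) x hx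
      rw [show l = N - 2 by omega])
    have hsN := hs (N - 3) (by omega)
    rw [show N - 3 + 1 = N - 2 by omega] at hsN
    rw [(hadj'.simple fun h => hsN h.symm).1, hP] at rk
    rw [hQ] at rl
    try simp only at e0 e1
    have rk' : T.w (v (N - 2)) * (T.m (v (N - 3)) + P * T.m (v (N - 1)) - 2 * T.m (v (N - 2))) = 0 := by
      linarith
    have rl' : T.w (v (N - 1)) * (Q * T.m (v (N - 2)) - 2 * T.m (v (N - 1))) = 0 := by linarith
    replace rk' := (mul_eq_zero.mp rk').resolve_left (T.w_pos _).ne'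
    replace rl' := (mul_eq_zero.mp rl').resolve_left (T.w_pos _).ne'
    have h0 := T.m_pos (v 0)
    have hN' : ((N - 3 : ℕ) : ℤ) = (N : ℤ) - 3 := by omega
    have hN'' : ((N - 2 : ℕ) : ℤ) = (N : ℤ) - 2 := by omega
    rw [hN'] at e0; rw [hN''] at e1
    have hN3 : 3 * T.m (v 0) ≤ (N : ℤ) * T.m (v 0) :=
      mul_le_mul_of_nonneg_right (by omega) h0.le
    rcases hPQ with ⟨rfl, rfl⟩ | ⟨rfl, rfl⟩ | ⟨rfl, rfl⟩ <;> linarith
  · refine row_one_simple h2 (hp.adj 0 (by omega)) (hs 0 (by omega)) (fun x hx => ?_)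
    obtain ⟨l, hl, rfl, h⟩ := hnb 0 (by omega) x hx
    rw [show l = 0 + 1 by omega]
  · intro j hj hjN
    have a1 := (hp.adj (j - 1) (by omega)).symm
    rw [show j - 1 + 1 = j by omega] at a1
    have s1 := hs (j - 1) (by omega)
    rw [show j - 1 + 1 = j by omega] at s1
    refine row_two_simple h2 a1 (hp.adj j (by omega)) (fun h => s1 h.symm) (hs j (by omega))
      (hp.ne (by omega) (by omega) (by omega)) (fun x hx => ?_)
    obtain ⟨l, hl, rfl, h⟩ := hnb j (by omega) x hx
    rcases h with h | h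
    · left; rw [show l = j - 1 by omega]
    · right; rw [show l = j + 1 by omega]

/-- A path exhausting the type is affine. -/
theorem affine_of_spanning_path {v : ℕ → Fin n} {N : ℕ} (hp : IsPath T v N) (hN : 3 ≤ N)
    (h2 : ∀ k, T.a k k = -2 * T.w k) (nT : ∀ a b, ¬ Trip T a b)
    (nD : ∀ a b, ¬ (Dbl T a b ∧ Dbl T b a))
    (hnb : ∀ k < N, ∀ x, Adj T (v k) x → ∃ l < N, x = v l ∧ (l + 1 = k ∨ k + 1 = l)) :
    Affine T := by
  have hnb' : ∀ k < N, ∀ x, Adj T (v (N - 1 - k)) x →
      ∃ l < N, x = v (N - 1 - l) ∧ (l + 1 = k ∨ k + 1 = l) := by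
    intro k hk x hx
    obtain ⟨l, hl, rfl, h⟩ := hnb (N - 1 - k) (by omega) x hx
    exact ⟨N - 1 - l, by omega, by rw [show N - 1 - (N - 1 - l) = l by omega], by omega⟩
  by_cases hex : ∃ i, i + 1 < N ∧ NS T (v i) (v (i + 1))
  · obtain ⟨i, hi, hns⟩ := hex
    by_cases huniq : ∃ j, j + 1 < N ∧ j ≠ i ∧ NS T (v j) (v (j + 1))
    · obtain ⟨j, hj, hji, hns'⟩ := huniq
      rcases hji.lt_or_gt with h | h
      · exact (affine_of_two_ns hp (fun _ _ => h2 _) h hi hns' hns).2
      · exact (affine_of_two_ns hp (fun _ _ => h2 _) h hj hns hns').2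
    have huniq' : ∀ j, j + 1 < N → NS T (v j) (v (j + 1)) → j = i := fun j hj h => by
      by_contra hne; exact huniq ⟨j, hj, hne, h⟩
    rcases (show i + 2 = N ∨ i = 0 ∨ (1 ≤ i ∧ i + 2 < N ∧ 5 ≤ N) ∨ (i = 1 ∧ N = 4) by omega) with
      h | h | h | ⟨rfl, rfl⟩
    · exact (no_end_path hp hN h2 nT nD hnb (fun k hk hk' => by
        have := huniq' k (by omega) hk'; omega)).elim
    · refine (no_end_path hp.rev hN h2 nT nD hnb' (fun k hk hk' => ?_)).elim
      have := huniq' (N - 1 - (k + 1)) (by omega) (by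
        rw [show N - 1 - (k + 1) + 1 = N - 1 - k by omega]; exact NS.symm hk')
      omega
    · exact (affine_of_interior_ns hp (fun _ _ => h2 _) h.1 h.2.1 h.2.2 hns).2
    · exfalso
      have s0 : ¬ NS T (v 0) (v 1) := fun h => by have := huniq' 0 (by omega) h; omega
      have s2 : ¬ NS T (v 2) (v 3) := fun h => by have := huniq' 2 (by omega) h; omega
      have a0 := hp.adj 0 (by omega)
      have a1 := hp.adj 1 (by omega)
      have a2 := hp.adj 2 (by omega)
      obtain ⟨P, Q, hP, hQ, hPQ⟩ := exists_pq nT nD a1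
      have r0 := row_one_simple h2 a0 s0 (fun x hx => by
        obtain ⟨l, hl, rfl, h⟩ := hnb 0 (by omega) x hx; rw [show l = 1 by omega])
      have r1 := row_two h2 a0.symm a1 (hp.ne (by omega) (by omega) (by omega)) (fun x hx => by
        obtain ⟨l, hl, rfl, h⟩ := hnb 1 (by omega) x hx
        rcases h with h | h
        · left; rw [show l = 0 by omega]
        · right; rw [show l = 2 by omega])
      have r2 := row_two h2 a1.symm a2 (hp.ne (by omega) (by omega) (by omega)) (fun x hx => by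
        obtain ⟨l, hl, rfl, h⟩ := hnb 2 (by omega) x hx
        rcases h with h | h
        · left; rw [show l = 1 by omega]
        · right; rw [show l = 3 by omega])
      have r3 := row_one_simple h2 a2.symm (fun h => s2 h.symm) (fun x hx => by
        obtain ⟨l, hl, rfl, h⟩ := hnb 3 (by omega) x hx; rw [show l = 2 by omega])
      rw [(a0.symm.simple fun h => s0 h.symm).1, hP] at r1
      rw [(a2.simple s2).1, hQ] at r2
      have r1' : T.w (v 1) * (T.m (v 0) + P * T.m (v 2) - 2 * T.m (v 1)) = 0 := by linarith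
      have r2' : T.w (v 2) * (Q * T.m (v 1) + T.m (v 3) - 2 * T.m (v 2)) = 0 := by linarith
      replace r1' := (mul_eq_zero.mp r1').resolve_left (T.w_pos _).ne'
      replace r2' := (mul_eq_zero.mp r2').resolve_left (T.w_pos _).ne'
      have := T.m_pos (v 0); have := T.m_pos (v 3)
      rcases hPQ with ⟨rfl, rfl⟩ | ⟨rfl, rfl⟩ | ⟨rfl, rfl⟩ <;> linarith
  · exact (no_end_path hp hN h2 nT nD hnb (fun k hk h => hex ⟨k, by omega, h⟩)).elim

/-- A longest path with a branch gives an affine type. -/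
theorem affine_of_branch {v : ℕ → Fin n} {N : ℕ} (hp : IsPath T v N)
    (h2 : ∀ k, T.a k k = -2 * T.w k) (hmax : ∀ w, ¬ IsPath T w (N + 1))
    (hchord : ∀ a b, a < N → b < N → Adj T (v a) (v b) → a + 1 = b ∨ b + 1 = a)
    {k : ℕ} {u : Fin n} (hk : k < N) (hu : ∀ l < N, v l ≠ u) (hb : Adj T (v k) u) :
    Affine T := by
  have hend : ∀ {x : Fin n}, (∀ l < N, v l ≠ x) → ¬ Adj T (v 0) x ∧ ¬ Adj T (v (N - 1)) x :=
    fun hx => ⟨fun h => hmax _ (hp.cons hx fun _ => h.symm), fun h => hmax _ (hp.snoc hx fun _ => h)⟩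
  wlog hwlog : 2 * k + 1 ≤ N generalizing v k with H
  · refine H (v := fun l => v (N - 1 - l)) hp.rev (fun a b ha hb h => ?_) (k := N - 1 - k) (by omega)
      (fun l hl => hu _ (by omega)) (by rwa [show N - 1 - (N - 1 - k) = k by omega]) (fun hx => ?_)
      (by omega)
    · have := hchord _ _ (show N - 1 - a < N by omega) (show N - 1 - b < N by omega) h; omega
    · have hx' : ∀ l < N, v l ≠ _ := fun l hl => by
        have := hx (N - 1 - l) (by omega)
        rwa [show N - 1 - (N - 1 - l) = l by omega] at this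
      obtain ⟨e1, e2⟩ := hend hx'
      exact ⟨by simpa using e2, by simpa using e1⟩
  have hk0 : 1 ≤ k := by
    by_contra h
    obtain rfl : k = 0 := by omega
    exact (hend hu).1 hb
  have hk1 : k + 1 < N := by
    by_contra h
    exact (hend hu).2 ((show k = N - 1 by omega) ▸ hb)
  have M : ∀ {w : ℕ → Fin n} {L : ℕ}, M2 T w L := fun {_ _} => fun _ _ => h2 _
  have hu2 := h2 u
  by_cases hns : ∃ a, a + 1 < N ∧ NS T (v a) (v (a + 1))
  · obtain ⟨a, ha, hns⟩ := hns
    rcases le_or_gt k a with hka | hka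
    · exact (affine_of_branch_ns hp M hu hu2 hk0 hka ha hb hns).2
    · refine (affine_of_branch_ns hp.rev M (k := N - 1 - k) (a := N - 2 - a)
        (fun l hl => hu _ (by omega)) hu2 (by omega) (by omega) (by omega) ?_ ?_).2
      · show Adj T (v (N - 1 - (N - 1 - k))) u
        rwa [show N - 1 - (N - 1 - k) = k by omega]
      · show NS T (v (N - 1 - (N - 2 - a))) (v (N - 1 - (N - 2 - a + 1)))
        rw [show N - 1 - (N - 2 - a) = a + 1 by omega, show N - 1 - (N - 2 - a + 1) = a by omega]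
        exact hns.symm
  by_cases hnu : NS T (v k) u
  · exact (affine_of_branch_edge_ns hp M hu hu2 hk0 hk1 hnu).2
  by_cases hoth : ∃ k' u', k' < N ∧ (∀ l < N, v l ≠ u') ∧ Adj T (v k') u' ∧ ¬ (k' = k ∧ u' = u)
  · obtain ⟨k', u', hk', hu', hb', hne⟩ := hoth
    have hk'0 : 1 ≤ k' := by
      by_contra h
      obtain rfl : k' = 0 := by omega
      exact (hend hu').1 hb'
    have hk'1 : k' + 1 < N := by
      by_contra h
      exact (hend hu').2 ((show k' = N - 1 by omega) ▸ hb')
    rcases eq_or_ne u' u with rfl | huu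
    · have hkk : k' ≠ k := fun h => hne ⟨h, rfl⟩
      have key : ∀ lo hi, lo < hi → hi < N → Adj T (v lo) u' → Adj T (v hi) u' → Affine T := by
        intro lo hi hlh hhi h1 h3
        have hw := (hp.window lo (hi + 1 - lo) (by omega)).snoc (u := u')
          (fun l _ => hu _ (by omega)) (fun _ => by
            show Adj T (v (lo + (hi + 1 - lo - 1))) u'
            rwa [show lo + (hi + 1 - lo - 1) = hi by omega])
        refine (affine_of_chord hw M (a := 0) (b := hi + 1 - lo) (by omega) (by omega) ?_).2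
        simpa [show 0 < hi + 1 - lo by omega] using h1
      rcases hkk.lt_or_gt with h | h
      · exact key k' k h hk hb' hb
      · exact key k k' h hk' hb hb'
    · rcases le_total k k' with h | h
      · exact (affine_of_two_branches hp M hu hu' huu.symm hu2 (h2 u') hk0 h hk'1 hb hb').2
      · exact (affine_of_two_branches hp M hu' hu huu (h2 u') hu2 hk'0 h hk1 hb' hb).2
  have honly : ∀ k' u', k' < N → (∀ l < N, v l ≠ u') → Adj T (v k') u' → k' = k ∧ u' = u :=
    fun k' u' a b c => by by_contra h; exact hoth ⟨k', u', a, b, c, h⟩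
  by_cases hu₂ : ∃ u₂, Adj T u u₂ ∧ u₂ ≠ v k
  · obtain ⟨u₂, hu₂, hne⟩ := hu₂
    have hu₂' : ∀ l < N, v l ≠ u₂ := by
      intro l hl h
      have := (honly l u hl hu (h ▸ hu₂.symm)).1
      subst this
      exact hne h.symm
    rcases (show 2 ≤ k ∨ k = 1 by omega) with h | rfl
    · exact (seven_of_long_branch hp M hu hu₂' hu₂.ne hu2 (h2 u₂) h (by omega) hb hu₂).2
    · exfalso
      have hw := (hp.window 1 (N - 1) (by omega)).cons (u := u) (fun l _ => hu _ (by omega))
        (fun _ => hb.symm)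
      have hw' := hw.cons (u := u₂) (fun l hl => by
        (try dsimp only); split <;> [exact hu₂.ne; exact hu₂' _ (by omega)]) (fun _ => by simpa using hu₂.symm)
      exact hmax _ (by rwa [show N - 1 + 1 + 1 = N + 1 by omega] at hw')
  rcases (show 3 ≤ k ∨ (k = 2 ∧ 8 ≤ N) ∨ (k = 1 ∨ (k = 2 ∧ N < 8)) by omega) with h | ⟨rfl, h⟩ | h
  · exact (eight_of_middle_branch hp M hu hu2 h (by omega) hb).2
  · exact (nine_of_far_branch hp M hu hu2 h hb).2
  exfalso
  have hsimp : ∀ a, a + 1 < N → ¬ NS T (v a) (v (a + 1)) := fun a ha h => hns ⟨a, ha, h⟩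
  have hnb : ∀ l < N, ∀ x, Adj T (v l) x →
      (x = u ∧ l = k) ∨ ∃ l' < N, x = v l' ∧ (l' + 1 = l ∨ l + 1 = l') := by
    intro l hl x hx
    by_cases hxv : ∃ l' < N, v l' = x
    · obtain ⟨l', hl', rfl⟩ := hxv
      have := hchord l l' hl hl' hx
      exact .inr ⟨l', hl', rfl, by omega⟩
    · obtain ⟨e1, e2⟩ := honly l x hl (fun l' h h' => hxv ⟨l', h, h'⟩) hx
      exact .inl ⟨e2, e1⟩
  have hmid : ∀ l, 0 < l → l + 1 < N → l ≠ k → T.m (v (l - 1)) + T.m (v (l + 1)) = 2 * T.m (v l) := by
    intro l hl hlN hlk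
    have a1 := (hp.adj (l - 1) (by omega)).symm
    rw [show l - 1 + 1 = l by omega] at a1
    have s1 := hsimp (l - 1) (by omega)
    rw [show l - 1 + 1 = l by omega] at s1
    refine row_two_simple h2 a1 (hp.adj l hlN) (fun h => s1 h.symm) (hsimp l hlN)
      (hp.ne (by omega) (by omega) (by omega)) (fun x hx => ?_)
    rcases hnb l (by omega) x hx with ⟨-, h⟩ | ⟨l', hl', rfl, h'⟩
    · exact absurd h hlk
    · rcases h' with h' | h'
      · left; rw [show l' = l - 1 by omega]
      · right; rw [show l' = l + 1 by omega]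
  have hfirst : T.m (v 1) = 2 * T.m (v 0) :=
    row_one_simple h2 (hp.adj 0 (by omega)) (hsimp 0 (by omega)) (fun x hx => by
      rcases hnb 0 (by omega) x hx with ⟨-, h⟩ | ⟨l', hl', rfl, h'⟩
      · omega
      · rw [show l' = 0 + 1 by omega])
  have hlast : T.m (v (N - 2)) = 2 * T.m (v (N - 1)) := by
    have a1 := (hp.adj (N - 2) (by omega)).symm
    rw [show N - 2 + 1 = N - 1 by omega] at a1
    have s1 := hsimp (N - 2) (by omega)
    rw [show N - 2 + 1 = N - 1 by omega] at s1
    refine row_one_simple h2 a1 (fun h => s1 h.symm) (fun x hx => ?_)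
    rcases hnb (N - 1) (by omega) x hx with ⟨-, h⟩ | ⟨l', hl', rfl, h'⟩
    · omega
    · rw [show l' = N - 2 by omega]
  have hbr : T.m (v k) = 2 * T.m u := row_one_simple h2 hb.symm (fun h => hnu h.symm) (fun x hx => by
    by_contra h; exact hu₂ ⟨x, hx, h⟩)
  have hcentre : T.m (v (k - 1)) + T.m (v (k + 1)) + T.m u = 2 * T.m (v k) := by
    have a1 := (hp.adj (k - 1) (by omega)).symm
    rw [show k - 1 + 1 = k by omega] at a1
    have s1 := hsimp (k - 1) (by omega)
    rw [show k - 1 + 1 = k by omega] at s1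
    have e := row_eq (T := T) (i := v k) {v (k - 1), v (k + 1), u}
      (by simp [a1.ne, (hp.adj k hk1).ne, hb.ne]) (fun x hx => by
        rcases hnb k hk x hx with ⟨rfl, -⟩ | ⟨l', hl', rfl, h'⟩
        · simp
        · rcases h' with h' | h'
          · simp [show l' = k - 1 by omega]
          · simp [show l' = k + 1 by omega])
    rw [sum_insert (by simp [hp.ne (show k - 1 < N by omega) hk1 (by omega), hu (k - 1) (by omega)]),
      sum_pair (hu _ hk1), h2, (a1.simple fun h => s1 h.symm).1, ((hp.adj k hk1).simple (hsimp k hk1)).1,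
      (hb.simple hnu).1] at e
    have : T.w (v k) * (T.m (v (k - 1)) + T.m (v (k + 1)) + T.m u - 2 * T.m (v k)) = 0 := by linarith
    exact sub_eq_zero.mp ((mul_eq_zero.mp this).resolve_left (T.w_pos _).ne')
  have := T.m_pos (v 0); have hlastpos := T.m_pos (v (N - 1))
  rcases h with rfl | ⟨rfl, hN⟩
  · have hlin := linear_of_recurrence (fun j => T.m (v (N - 1 - j))) (N - 2) (.inr ?_) ?_
    · have e1 := hlin (N - 2) le_rfl
      have e2 := hlin (N - 3) (by omega)
      simp only [show N - 1 - (N - 2) = 1 by omega, Nat.sub_zero] at e1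
      simp only [show N - 1 - (N - 3) = 2 by omega, Nat.sub_zero] at e2
      have hN' : ((N - 3 : ℕ) : ℤ) = (N : ℤ) - 3 := by omega
      have hN'' : ((N - 2 : ℕ) : ℤ) = (N : ℤ) - 2 := by omega
      rw [hN''] at e1; rw [hN'] at e2
      simp only [Nat.sub_self, show (1 : ℕ) + 1 = 2 from rfl] at hcentre
      linarith
    · simp only [Nat.sub_zero, show N - 1 - 1 = N - 2 by omega]; exact hlast
    · intro j hj hjN
      have := hmid (N - 1 - j) (by omega) (by omega) (by omega)
      rw [show N - 1 - j - 1 = N - 1 - (j + 1) by omega,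
        show N - 1 - j + 1 = N - 1 - (j - 1) by omega] at this
      linarith
  · simp only [show (2 : ℕ) - 1 = 1 from rfl, show (2 : ℕ) + 1 = 3 from rfl] at hcentre
    have hm3 := hmid 3
    have hm4 := hmid 4
    have hm5 := hmid 5
    have hm1 := hmid 1 (by omega) (by omega) (by omega)
    have hN5 : 5 ≤ N := by omega
    interval_cases N
    · have := hm3 (by omega) (by omega) (by omega)
      norm_num at this hm1 hlast hlastpos; linarith
    · have := hm3 (by omega) (by omega) (by omega); have := hm4 (by omega) (by omega) (by omega)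
      norm_num at *; linarith
    · have := hm3 (by omega) (by omega) (by omega); have := hm4 (by omega) (by omega) (by omega)
      have := hm5 (by omega) (by omega) (by omega)
      norm_num at *; linarith

/-- **Classification**: a numerical type with only `(-2)`-indices, at least two of them, is affine. -/
theorem affine_of_forall_minusTwo (hn : 2 ≤ n) (h2 : ∀ k, T.a k k = -2 * T.w k) : Affine T := by
  rcases (show n = 2 ∨ 3 ≤ n by omega) with rfl | hn3
  · exact affine_of_card_two T h2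
  by_cases hT : ∃ i j, Trip T i j
  · obtain ⟨i, j, h⟩ := hT; exact (affine_of_trip hn3 h2 h).2
  by_cases hD : ∃ i j, Dbl T i j ∧ Dbl T j i
  · obtain ⟨i, j, h, h'⟩ := hD; exact (two_of_dbl_dbl h h' (h2 i) (h2 j)).2
  classical
  obtain ⟨j, hj⟩ := exists_adj (T := T) (by omega) ⟨0, by omega⟩
  obtain ⟨k, hki, hkj, hk⟩ := exists_third (T := T) hn3 ⟨0, by omega⟩ j
  have h3 : ∃ w, IsPath T w 3 := by
    rcases hk with hk | hk
    · exact ⟨_, isPath_three hk hj hkj⟩
    · exact ⟨_, isPath_three hk hj.symm hki⟩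
  obtain ⟨N, hN3, ⟨v, hp⟩, hmaxN⟩ : ∃ N, 3 ≤ N ∧ (∃ v, IsPath T v N) ∧
      ∀ w, ¬ IsPath T w (N + 1) := by
    refine ⟨Nat.findGreatest (fun N => ∃ v, IsPath T v N) n, Nat.le_findGreatest hn3 h3,
      Nat.findGreatest_spec (P := fun N => ∃ v, IsPath T v N) hn3 h3, fun w hw => ?_⟩
    exact absurd (Nat.le_findGreatest (P := fun N => ∃ v, IsPath T v N) hw.le ⟨w, hw⟩) (by omega)
  by_cases hchord : ∃ a b, a + 1 < b ∧ b < N ∧ Adj T (v a) (v b)
  · obtain ⟨a, b, hab, hb, h⟩ := hchord
    exact (affine_of_chord hp (fun _ _ => h2 _) hab hb h).2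
  have hchord' : ∀ a b, a < N → b < N → Adj T (v a) (v b) → a + 1 = b ∨ b + 1 = a := by
    intro a b ha hb h
    by_contra hc
    rw [not_or] at hc
    rcases lt_trichotomy a b with hab | rfl | hab
    · exact hchord ⟨a, b, by omega, hb, h⟩
    · exact h.ne rfl
    · exact hchord ⟨b, a, by omega, ha, h.symm⟩
  by_cases hbr : ∃ k u, k < N ∧ (∀ l < N, v l ≠ u) ∧ Adj T (v k) u
  · obtain ⟨k, u, hk, hu, hb⟩ := hbr
    exact affine_of_branch hp h2 hmaxN hchord' hk hu hb
  refine affine_of_spanning_path hp hN3 h2 (fun a b h => hT ⟨a, b, h⟩) (fun a b h => hD ⟨a, b, h⟩)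
    (fun l hl x hx => ?_)
  by_cases hxv : ∃ l' < N, v l' = x
  · obtain ⟨l', hl', rfl⟩ := hxv
    exact ⟨l', hl', rfl, by have := hchord' l l' hl hl' hx; omega⟩
  · exact absurd ⟨l, x, hl, fun l' h h' => hxv ⟨l', h, h'⟩, hx⟩ hbr

end GrothLib.NumType
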