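import Groth.Agent.Lib.NumType.Fixed

/-!
# Combinations forcing an affine type
-/

namespace GrothLib.NumType

open Finset

variable {n : ℕ}

/-- The affine diagrams, as predicates on a numerical type. -/
inductive Affine (T : Models.NumericalType n) : Prop
  | a1a : n = 2 → IsType T one one (tbl one eA1a) → Affine T
  | a1b : n = 2 → IsType T cA1b wA1b (tbl wA1b eA1b) → Affine T
  | cyc : 3 ≤ n → IsType T one one (tbl one (eCyc n)) → Affine T
  | c2 : 3 ≤ n → IsType T (cC2 n) (wC2 n) (tbl (wC2 n) (eC2 n)) → Affine T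
  | c3 : 3 ≤ n → IsType T one (wC3 n) (tbl (wC3 n) (eC3 n)) → Affine T
  | c4 : 3 ≤ n → IsType T (cC4 n) (wC4 n) (tbl (wC4 n) (eC4 n)) → Affine T
  | b5 : 4 ≤ n → IsType T (cB5 n) wB5 (tbl wB5 (eB5 n)) → Affine T
  | b6 : 4 ≤ n → IsType T (cB6 n) wB6 (tbl wB6 (eB6 n)) → Affine T
  | d : 5 ≤ n → IsType T (cD n) one (tbl one (eD n)) → Affine T
  | e6 : n = 7 → IsType T cE6 one (tbl one eE6) → Affine T
  | e7 : n = 8 → IsType T cE7 one (tbl one eE7) → Affine T
  | e8 : n = 9 → IsType T cE8 one (tbl one eE8) → Affine T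
  | f4a : n = 5 → IsType T cF4a wF4a (tbl wF4a eF4a) → Affine T
  | f4b : n = 5 → IsType T cF4b wF4b (tbl wF4b eF4b) → Affine T
  | g2a : n = 3 → IsType T cG2a wG2a (tbl wG2a eG2a) → Affine T
  | g2b : n = 3 → IsType T cG2b wG2b (tbl wG2b eG2b) → Affine T

variable {T : Models.NumericalType n}

theorem IsPath.idx {v : ℕ → Fin n} {N a b : ℕ} (h : IsPath T v N) (he : v a = v b) (ha : a < N)
    (hb : b < N) : a = b := h.inj ha hb he

/-- An edge which is not simple. -/
def NS (T : Models.NumericalType n) (i j : Fin n) : Prop := Dbl T i j ∨ Dbl T j i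

theorem NS.symm {i j : Fin n} (h : NS T i j) : NS T j i := Or.symm h

theorem NS.adj {i j : Fin n} (h : NS T i j) : Adj T i j := h.elim Dbl.adj fun h => h.adj.symm

theorem Adj.simple {i j : Fin n} (h : Adj T i j) (hns : ¬ NS T i j) :
    T.a i j = T.w i ∧ T.w i = T.w j := by
  rw [NS, not_or] at hns
  have h1 := h.eq_of_not_dbl hns.1
  have h2 := h.symm.eq_of_not_dbl hns.2
  rw [a_comm] at h2
  exact ⟨h1, h1.symm.trans h2⟩

theorem M2.of_forall {v : ℕ → Fin n} {N : ℕ} (h : ∀ i, T.a i i = -2 * T.w i) : M2 T v N :=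
  fun k _ => h (v k)

/-- An edge which is double in both directions is everything. -/
theorem two_of_dbl_dbl {i j : Fin n} (h1 : Dbl T i j) (h2 : Dbl T j i) (hi : T.a i i = -2 * T.w i)
    (hj : T.a j j = -2 * T.w j) : n = 2 ∧ Affine T := by
  set v : ℕ → Fin n := fun k => if k = 0 then i else j
  have hp : IsPath T v 2 := by
    refine ⟨fun a ha b hb he => ?_, fun k hk => ?_⟩
    · simp only [Set.mem_ofPred_eq] at ha hb
      interval_cases a <;> interval_cases b <;> simp_all [v, h1.adj.ne, h1.adj.ne.symm]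
    · obtain rfl : k = 0 := by omega
      exact h1.adj
  have h2' : M2 T v 2 := fun k hk => by interval_cases k <;> simp [v, hi, hj]
  obtain ⟨h, hT⟩ := cfg_A1a hp h2' h1 h2
  exact ⟨h.symm, .a1a h.symm hT⟩

/-- A triple edge in a chain of three is everything. -/
theorem three_of_trip {v : ℕ → Fin n} (hp : IsPath T v 3) (h2 : M2 T v 3)
    (h : Trip T (v 1) (v 2) ∨ Trip T (v 2) (v 1)) : n = 3 ∧ Affine T := by
  rcases h with h | h
  · obtain ⟨e, hT⟩ := cfg_G2a hp h2 h
    exact ⟨e.symm, .g2a e.symm hT⟩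
  · obtain ⟨e, hT⟩ := cfg_G2b hp h2 h
    exact ⟨e.symm, .g2b e.symm hT⟩

/-- A chord of a path closes up an affine cycle. -/
theorem affine_of_chord {v : ℕ → Fin n} {N : ℕ} (hp : IsPath T v N) (h2 : M2 T v N) {a b : ℕ}
    (hab : a + 1 < b) (hb : b < N) (h : Adj T (v a) (v b)) : n + a = b + 1 ∧ Affine T := by
  have hw := hp.window a (b + 1 - a) (by omega)
  obtain ⟨e, hT⟩ := cfg_cyc (by omega) hw (fun k hk => h2 (a + k) (by omega)) (by
    show Adj T (v (a + 0)) (v (a + (b + 1 - a - 1)))
    rwa [add_zero, show a + (b + 1 - a - 1) = b by omega])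
  exact ⟨by omega, .cyc (by omega) (e ▸ hT)⟩

/-- Two non-simple edges on a path span everything. -/
theorem affine_of_two_ns {v : ℕ → Fin n} {N : ℕ} (hp : IsPath T v N) (h2 : M2 T v N) {i j : ℕ}
    (hij : i < j) (hj : j + 1 < N) (hi : NS T (v i) (v (i + 1))) (hj' : NS T (v j) (v (j + 1))) :
    n + i = j + 2 ∧ Affine T := by
  set M := j + 2 - i with hM
  have hw := hp.window i M (by omega)
  have hw2 : M2 T (fun k => v (i + k)) M := fun k hk => h2 (i + k) (by omega)
  have hw2' : M2 T (fun k => (fun k => v (i + k)) (M - 1 - k)) M := fun k hk => hw2 _ (by omega)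
  have e1 : i + (M - 2) = j := by omega
  have e2 : i + (M - 1) = j + 1 := by omega
  rcases hi with h | h <;> rcases hj' with h' | h'
  · obtain ⟨e, hT⟩ := cfg_C2 (by omega) hw hw2 (by simpa using h) (by rw [e1, e2]; exact h')
    exact ⟨by omega, .c2 (by omega) (e ▸ hT)⟩
  · obtain ⟨e, hT⟩ := cfg_C3 (by omega) hw hw2 (by simpa using h) (by rw [e1, e2]; exact h')
    exact ⟨by omega, .c3 (by omega) (e ▸ hT)⟩
  · obtain ⟨e, hT⟩ := cfg_C4 (by omega) hw hw2 (by simpa using h) (by rw [e1, e2]; exact h')
    exact ⟨by omega, .c4 (by omega) (e ▸ hT)⟩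
  · obtain ⟨e, hT⟩ := cfg_C2 (by omega) hw.rev hw2'
      (by
        show Dbl T (v (i + (M - 1 - 0))) (v (i + (M - 1 - 1)))
        rw [show i + (M - 1 - 0) = j + 1 by omega, show i + (M - 1 - 1) = j by omega]; exact h')
      (by
        show Dbl T (v (i + (M - 1 - (M - 2)))) (v (i + (M - 1 - (M - 1))))
        rw [show i + (M - 1 - (M - 2)) = i + 1 by omega, show i + (M - 1 - (M - 1)) = i by omega]
        exact h)
    exact ⟨by omega, .c2 (by omega) (e ▸ hT)⟩

/-- A non-simple edge in the middle of a chain of five is everything. -/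
theorem five_of_inner_ns {v : ℕ → Fin n} (hp : IsPath T v 5) (h2 : M2 T v 5)
    (h : NS T (v 2) (v 3)) : n = 5 ∧ Affine T := by
  rcases h with h | h
  · obtain ⟨e, hT⟩ := cfg_F4a hp h2 h
    exact ⟨e.symm, .f4a e.symm hT⟩
  · obtain ⟨e, hT⟩ := cfg_F4b hp h2 h
    exact ⟨e.symm, .f4b e.symm hT⟩

/-- An interior non-simple edge of a path with five vertices is everything. -/
theorem affine_of_interior_ns {v : ℕ → Fin n} {N : ℕ} (hp : IsPath T v N) (h2 : M2 T v N) {i : ℕ}
    (hi : 1 ≤ i) (hi' : i + 2 < N) (hN : 5 ≤ N) (h : NS T (v i) (v (i + 1))) :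
    n = 5 ∧ Affine T := by
  rcases (show i + 4 ≤ N ∨ (2 ≤ i ∧ i + 3 = N) by omega) with hc | ⟨hc, hc'⟩
  · refine five_of_inner_ns ((hp.window (i - 1) 5 (by omega)).rev)
      (fun k hk => h2 _ (by omega)) ?_
    show NS T (v (i - 1 + (5 - 1 - 2))) (v (i - 1 + (5 - 1 - 3)))
    rw [show i - 1 + (5 - 1 - 2) = i + 1 by omega, show i - 1 + (5 - 1 - 3) = i by omega]
    exact h.symm
  · refine five_of_inner_ns (hp.window (i - 2) 5 (by omega)) (fun k hk => h2 _ (by omega)) ?_
    show NS T (v (i - 2 + 2)) (v (i - 2 + 3))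
    rw [show i - 2 + 2 = i by omega, show i - 2 + 3 = i + 1 by omega]
    exact h

/-- A non-simple edge at the end of a chain ending in a fork. -/
theorem affine_of_B {v : ℕ → Fin n} {N : ℕ} (hN : 4 ≤ N) (hinj : Set.InjOn v {k | k < N})
    (h2 : M2 T v N) (hadj : ∀ k, k + 2 < N → Adj T (v k) (v (k + 1)))
    (hbr : Adj T (v (N - 3)) (v (N - 1))) (h : NS T (v 0) (v 1)) : n = N ∧ Affine T := by
  rcases h with h | h
  · obtain ⟨e, hT⟩ := cfg_B6 hN hinj h2 hadj hbr h
    exact ⟨e.symm, .b6 (by omega) (e ▸ hT)⟩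
  · obtain ⟨e, hT⟩ := cfg_B5 hN hinj h2 hadj hbr h
    exact ⟨e.symm, .b5 (by omega) (e ▸ hT)⟩

/-- A branch vertex and a non-simple edge beyond it. -/
theorem affine_of_branch_ns {v : ℕ → Fin n} {N : ℕ} (hp : IsPath T v N) (h2 : M2 T v N) {k a : ℕ}
    {u : Fin n} (hu : ∀ l < N, v l ≠ u) (hu2 : T.a u u = -2 * T.w u) (hk : 1 ≤ k) (hka : k ≤ a)
    (ha : a + 1 < N) (hbr : Adj T (v k) u) (h : NS T (v a) (v (a + 1))) :
    n + k = a + 4 ∧ Affine T := by
  obtain ⟨M, hM⟩ : ∃ M, M = a + 4 - k := ⟨_, rfl⟩
  set v' : ℕ → Fin n := fun l => if l + 2 ≤ M then v (a + 1 - l) else u with hv'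
  have hinj : Set.InjOn v' {l | l < M} := by
    intro x hx y hy he
    simp only [Set.mem_ofPred_eq] at hx hy
    simp only [hv'] at he
    split_ifs at he with c1 c2 c2
    · have := hp.inj (show a + 1 - x < N by omega) (show a + 1 - y < N by omega) he; omega
    · exact absurd he (hu _ (by omega))
    · exact absurd he.symm (hu _ (by omega))
    · omega
  obtain ⟨e, hA⟩ := affine_of_B (v := v') (N := M) (by omega) hinj
    (fun l hl => by simp only [hv']; split_ifs; exacts [h2 _ (by omega), hu2])
    (fun l hl => by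
      simp only [hv']; rw [if_pos (by omega), if_pos (by omega)]
      have := (hp.adj (a - l) (by omega)).symm
      rwa [show a - l + 1 = a + 1 - l by omega, show a - l = a + 1 - (l + 1) by omega] at this)
    (by
      simp only [hv']; rw [if_pos (by omega), if_neg (by omega)]
      rwa [show a + 1 - (M - 3) = k by omega])
    (by
      simp only [hv']; rw [if_pos (by omega), if_pos (by omega)]
      simpa using h.symm)
  exact ⟨by omega, hA⟩

/-- A branch edge which is not simple. -/
theorem affine_of_branch_edge_ns {v : ℕ → Fin n} {N : ℕ} (hp : IsPath T v N) (h2 : M2 T v N)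
    {k : ℕ} {u : Fin n} (hu : ∀ l < N, v l ≠ u) (hu2 : T.a u u = -2 * T.w u) (hk : 1 ≤ k)
    (hk' : k + 1 < N) (h : NS T (v k) u) : n = 4 ∧ Affine T := by
  set v' : ℕ → Fin n := fun l => if l = 0 then u else if l = 1 then v k else if l = 2 then v (k - 1)
    else v (k + 1) with hv'
  have hinj : Set.InjOn v' {l | l < 4} := by
    intro x hx y hy he
    simp only [Set.mem_ofPred_eq] at hx hy
    have := hu k (by omega); have := hu (k - 1) (by omega); have := hu (k + 1) hk'
    have := hp.ne (k := k) (l := k - 1) (by omega) (by omega) (by omega)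
    have := hp.ne (k := k) (l := k + 1) (by omega) hk' (by omega)
    have := hp.ne (k := k - 1) (l := k + 1) (by omega) hk' (by omega)
    interval_cases x <;> interval_cases y <;> simp_all [hv', eq_comm]
  refine affine_of_B (v := v') (N := 4) le_rfl hinj
    (fun l hl => by interval_cases l <;> simp [hv', hu2, h2 k (by omega), h2 (k - 1) (by omega),
      h2 (k + 1) hk'])
    (fun l hl => ?_) (by simpa [hv'] using hp.adj k hk') (by simpa [hv'] using h.symm)
  have hl2 : l < 2 := by omega
  interval_cases l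
  · simpa [hv'] using h.adj.symm
  · have := (hp.adj (k - 1) (by omega)).symm
    rw [show k - 1 + 1 = k by omega] at this
    simpa [hv'] using this

/-- Two branches along a path. -/
theorem affine_of_two_branches {v : ℕ → Fin n} {N : ℕ} (hp : IsPath T v N) (h2 : M2 T v N)
    {k k' : ℕ} {u u' : Fin n} (hu : ∀ l < N, v l ≠ u) (hu' : ∀ l < N, v l ≠ u') (huu : u ≠ u')
    (hu2 : T.a u u = -2 * T.w u) (hu2' : T.a u' u' = -2 * T.w u') (hk : 1 ≤ k) (hkk : k ≤ k')
    (hk' : k' + 1 < N) (hb : Adj T (v k) u) (hb' : Adj T (v k') u') :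
    n + k = k' + 5 ∧ Affine T := by
  obtain ⟨M, hM⟩ : ∃ M, M = k' + 5 - k := ⟨_, rfl⟩
  set v' : ℕ → Fin n := fun l => if l = 0 then u else if l + 2 ≤ M then v (k + l - 2) else u' with hv'
  have hinj : Set.InjOn v' {l | l < M} := by
    intro x hx y hy he
    simp only [Set.mem_ofPred_eq] at hx hy
    simp only [hv'] at he
    split_ifs at he <;>
      first
        | omega
        | exact absurd he.symm (hu _ (by omega))
        | exact absurd he (hu _ (by omega))
        | exact absurd he.symm (hu' _ (by omega))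
        | exact absurd he (hu' _ (by omega))
        | exact absurd he huu
        | exact absurd he.symm huu
        | (have := hp.inj (show k + x - 2 < N by omega) (show k + y - 2 < N by omega) he; omega)
  obtain ⟨e, hT⟩ := cfg_D (v := v') (N := M) (by omega) hinj
    (fun l hl => by simp only [hv']; split_ifs; exacts [hu2, h2 _ (by omega), hu2'])
    (by simpa [hv', show 2 + 2 ≤ M by omega] using hb.symm)
    (fun l hl1 hl => by
      simp only [hv']
      rw [if_neg (by omega), if_pos (by omega), if_neg (by omega), if_pos (by omega)]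
      have := hp.adj (k + l - 2) (by omega)
      rwa [show k + l - 2 + 1 = k + (l + 1) - 2 by omega] at this)
    (by
      simp only [hv']
      rw [if_neg (by omega), if_pos (by omega), if_neg (by omega), if_neg (by omega)]
      rwa [show k + (M - 3) - 2 = k' by omega])
  exact ⟨by omega, .d (by omega) (e ▸ hT)⟩

/-- A branch of length two is everything. -/
theorem seven_of_long_branch {v : ℕ → Fin n} {N : ℕ} (hp : IsPath T v N) (h2 : M2 T v N)
    {k : ℕ} {u u₂ : Fin n} (hu : ∀ l < N, v l ≠ u) (hu₂ : ∀ l < N, v l ≠ u₂) (huu : u ≠ u₂)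
    (hu2 : T.a u u = -2 * T.w u) (hu₂2 : T.a u₂ u₂ = -2 * T.w u₂) (hk : 2 ≤ k) (hk' : k + 2 < N)
    (hb : Adj T (v k) u) (hb₂ : Adj T u u₂) : n = 7 ∧ Affine T := by
  set v' : ℕ → Fin n := fun l => if l = 0 then v (k - 2) else if l = 1 then v (k - 1) else
    if l = 2 then v k else if l = 3 then v (k + 2) else if l = 4 then v (k + 1) else
    if l = 5 then u₂ else u with hv'
  have hinj : Set.InjOn v' {l | l < 7} := by
    intro x hx y hy he
    simp only [Set.mem_ofPred_eq] at hx hy
    simp only [hv'] at he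
    split_ifs at he <;>
      first
        | omega
        | exact absurd he.symm (hu _ (by omega))
        | exact absurd he (hu _ (by omega))
        | exact absurd he.symm (hu₂ _ (by omega))
        | exact absurd he (hu₂ _ (by omega))
        | exact absurd he huu
        | exact absurd he.symm huu
        | (have := hp.idx he (by omega) (by omega); omega)
  have a1 := hp.adj (k - 2) (by omega)
  rw [show k - 2 + 1 = k - 1 by omega] at a1
  have a2 := hp.adj (k - 1) (by omega)
  rw [show k - 1 + 1 = k by omega] at a2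
  obtain ⟨e, hT⟩ := cfg_E6 (v := v') hinj
    (fun l hl => by
      simp only [hv']; split_ifs
      exacts [h2 _ (by omega), h2 _ (by omega), h2 _ (by omega), h2 _ (by omega), h2 _ (by omega),
        hu₂2, hu2])
    (by simpa [hv'] using a1) (by simpa [hv'] using a2) (by simpa [hv'] using hp.adj k (by omega))
    (by simpa [hv'] using hb) (by simpa [hv'] using (hp.adj (k + 1) hk').symm)
    (by simpa [hv'] using hb₂.symm)
  exact ⟨e.symm, .e6 e.symm hT⟩

/-- A branch in the middle of seven is everything. -/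
theorem eight_of_middle_branch {v : ℕ → Fin n} {N : ℕ} (hp : IsPath T v N) (h2 : M2 T v N)
    {k : ℕ} {u : Fin n} (hu : ∀ l < N, v l ≠ u) (hu2 : T.a u u = -2 * T.w u) (hk : 3 ≤ k)
    (hk' : k + 3 < N) (hb : Adj T (v k) u) : n = 8 ∧ Affine T := by
  set v' : ℕ → Fin n := fun l => if l < 7 then v (k - 3 + l) else u with hv'
  have hinj : Set.InjOn v' {l | l < 8} := by
    intro x hx y hy he
    simp only [Set.mem_ofPred_eq] at hx hy
    simp only [hv'] at he
    split_ifs at he <;>
      first
        | omega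
        | exact absurd he.symm (hu _ (by omega))
        | exact absurd he (hu _ (by omega))
        | (have := hp.inj (show k - 3 + x < N by omega) (show k - 3 + y < N by omega) he; omega)
  obtain ⟨e, hT⟩ := cfg_E7 (v := v') hinj
    (fun l hl => by simp only [hv']; split_ifs; exacts [h2 _ (by omega), hu2])
    (fun l hl => by
      simp only [hv']; rw [if_pos (by omega), if_pos (by omega)]
      exact hp.adj (k - 3 + l) (by omega))
    (by simp only [hv']; rw [if_pos (by omega), if_neg (by omega)]; rwa [show k - 3 + 3 = k by omega])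
  exact ⟨e.symm, .e7 e.symm hT⟩

/-- A branch at position two of eight is everything. -/
theorem nine_of_far_branch {v : ℕ → Fin n} {N : ℕ} (hp : IsPath T v N) (h2 : M2 T v N) {u : Fin n}
    (hu : ∀ l < N, v l ≠ u) (hu2 : T.a u u = -2 * T.w u) (hN : 8 ≤ N) (hb : Adj T (v 2) u) :
    n = 9 ∧ Affine T := by
  set v' : ℕ → Fin n := fun l => if l < 8 then v (7 - l) else u with hv'
  have hinj : Set.InjOn v' {l | l < 9} := by
    intro x hx y hy he
    simp only [Set.mem_ofPred_eq] at hx hy
    simp only [hv'] at he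
    split_ifs at he <;>
      first
        | omega
        | exact absurd he.symm (hu _ (by omega))
        | exact absurd he (hu _ (by omega))
        | (have := hp.inj (show 7 - x < N by omega) (show 7 - y < N by omega) he; omega)
  obtain ⟨e, hT⟩ := cfg_E8 (v := v') hinj
    (fun l hl => by simp only [hv']; split_ifs; exacts [h2 _ (by omega), hu2])
    (fun l hl => by
      simp only [hv']; rw [if_pos (by omega), if_pos (by omega)]
      have := (hp.adj (6 - l) (by omega)).symm
      rwa [show 6 - l + 1 = 7 - l by omega, show 6 - l = 7 - (l + 1) by omega] at this)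
    (by simp only [hv']; rw [if_pos (by omega), if_neg (by omega)]; exact hb)
  exact ⟨e.symm, .e8 e.symm hT⟩

end GrothLib.NumType
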