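import Groth.Agent.Lib.NumType.Basic
import Mathlib.Data.Int.Interval
import Mathlib.Tactic.NormNum
import Mathlib.Tactic.IntervalCases

/-!
# The affine Dynkin configurations
-/

namespace GrothLib.NumType

open Finset

variable {n : ℕ} {T : Models.NumericalType n}

/-- The symmetric table with diagonal `-2 ω` and upper triangle `e`. -/
def tbl (ω : ℕ → ℤ) (e : ℕ → ℕ → ℤ) (k l : ℕ) : ℤ :=
  if k = l then -2 * ω k else if k < l then e k l else e l k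

theorem tbl_self (ω : ℕ → ℤ) (e : ℕ → ℕ → ℤ) (k : ℕ) : tbl ω e k k = -2 * ω k := by simp [tbl]

theorem tbl_of_lt (ω : ℕ → ℤ) (e : ℕ → ℕ → ℤ) {k l : ℕ} (h : k < l) : tbl ω e k l = e k l := by
  simp [tbl, h, h.ne]

theorem tbl_of_gt (ω : ℕ → ℤ) (e : ℕ → ℕ → ℤ) {k l : ℕ} (h : l < k) : tbl ω e k l = e l k := by
  simp [tbl, h.ne', Nat.lt_asymm h]

theorem tbl_comm (ω : ℕ → ℤ) (e : ℕ → ℕ → ℤ) (k l : ℕ) : tbl ω e k l = tbl ω e l k := by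
  rcases lt_trichotomy k l with h | rfl | h
  · rw [tbl_of_lt ω e h, tbl_of_gt ω e h]
  · rfl
  · rw [tbl_of_gt ω e h, tbl_of_lt ω e h]

/-- `isType_of_cfg` for tables given by their upper triangle. -/
theorem isType_of_tbl (N : ℕ) (v : ℕ → Fin n) (c ω : ℕ → ℤ) (e : ℕ → ℕ → ℤ)
    (hinj : Set.InjOn v {k | k < N})
    (hv : ∀ k < N, T.a (v k) (v k) = -2 * T.w (v k))
    (hc : ∀ k < N, 0 < c k) (hω : ∀ k < N, 0 < ω k)
    (hc1 : ∃ k < N, c k = 1) (hω1 : ∃ k < N, ω k = 1)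
    (hrow : ∀ k < N, 0 ≤ ∑ l ∈ range N, tbl ω e k l * c l)
    (hlb : ∀ k l, k < l → l < N → e k l ≠ 0 →
      e k l * T.w (v k) ≤ ω k * T.a (v k) (v l) ∧ e k l * T.w (v l) ≤ ω l * T.a (v k) (v l)) :
    N = n ∧ IsType T c ω (tbl ω e) := by
  refine isType_of_cfg N v c ω _ hinj hc hω hc1 hω1 (fun k _ l _ => tbl_comm ω e k l) hrow
    (fun k hk => ⟨tbl_self ω e k, hv k hk⟩) ?_
  intro k hk l hl hkl
  have hne : v k ≠ v l := fun h => hkl (hinj hk hl h)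
  rcases eq_or_ne (tbl ω e k l) 0 with h | h
  · rw [h, zero_mul]; exact mul_nonneg (hω k hk).le (T.offDiag_nonneg _ _ hne)
  rcases hkl.lt_or_gt with h' | h'
  · rw [tbl_of_lt ω e h'] at h ⊢; exact (hlb k l h' hl h).1
  · rw [tbl_of_gt ω e h'] at h ⊢; rw [a_comm]; exact (hlb l k h' hk h).2

theorem sum_range_two {f : ℕ → ℤ} {N p q : ℕ} (hp : p < N) (hq : q < N) (hpq : p ≠ q)
    (h0 : ∀ l < N, l ≠ p → l ≠ q → f l = 0) : ∑ l ∈ range N, f l = f p + f q := by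
  rw [← Finset.sum_pair hpq]
  refine (Finset.sum_subset (fun l hl => ?_) fun l hl hl' => ?_).symm
  · simp at hl; rcases hl with rfl | rfl <;> simp [*]
  · simp at hl hl'; exact h0 l hl hl'.1 hl'.2

theorem sum_range_three {f : ℕ → ℤ} {N p q r : ℕ} (hp : p < N) (hq : q < N) (hr : r < N)
    (hpq : p ≠ q) (hpr : p ≠ r) (hqr : q ≠ r)
    (h0 : ∀ l < N, l ≠ p → l ≠ q → l ≠ r → f l = 0) :
    ∑ l ∈ range N, f l = f p + f q + f r := by
  have : ∑ l ∈ ({p, q, r} : Finset ℕ), f l = f p + f q + f r := by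
    rw [sum_insert (by simp [hpq, hpr]), sum_pair hqr]; ring
  rw [← this]
  refine (Finset.sum_subset (fun l hl => ?_) fun l hl hl' => ?_).symm
  · simp at hl; rcases hl with rfl | rfl | rfl <;> simp [*]
  · simp at hl hl'; exact h0 l hl hl'.1 hl'.2.1 hl'.2.2

theorem sum_range_four {f : ℕ → ℤ} {N p q r s : ℕ} (hp : p < N) (hq : q < N) (hr : r < N) (hs : s < N)
    (hpq : p ≠ q) (hpr : p ≠ r) (hps : p ≠ s) (hqr : q ≠ r) (hqs : q ≠ s) (hrs : r ≠ s)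
    (h0 : ∀ l < N, l ≠ p → l ≠ q → l ≠ r → l ≠ s → f l = 0) :
    ∑ l ∈ range N, f l = f p + f q + f r + f s := by
  have : ∑ l ∈ ({p, q, r, s} : Finset ℕ), f l = f p + f q + f r + f s := by
    rw [sum_insert (by simp [hpq, hpr, hps]), sum_insert (by simp [hqr, hqs]), sum_pair hrs]; ring
  rw [← this]
  refine (Finset.sum_subset (fun l hl => ?_) fun l hl hl' => ?_).symm
  · simp at hl; rcases hl with rfl | rfl | rfl | rfl <;> simp [*]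
  · simp at hl hl'; exact h0 l hl hl'.1 hl'.2.1 hl'.2.2.1 hl'.2.2.2

/-! ## Tables -/

/-- constant one -/
def one : ℕ → ℤ := fun _ => 1
/-- cycle -/
def eCyc (N k l : ℕ) : ℤ :=
  if l = k + 1 then 1 else if k = 0 ∧ l + 1 = N then 1 else 0
def cC2 (N k : ℕ) : ℤ := if k + 1 < N then 2 else 1
def wC2 (N k : ℕ) : ℤ := if k = 0 then 1 else if k + 1 < N then 2 else 4
def eC2 (N k l : ℕ) : ℤ :=
  if l = k + 1 ∧ l + 1 < N then 2 else if l = k + 1 ∧ l + 1 = N then 4 else 0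
def wC3 (N k : ℕ) : ℤ := if k = 0 then 1 else if k + 1 < N then 2 else 1
def eC3 (_N k l : ℕ) : ℤ := if l = k + 1 then 2 else 0
def cC4 (N k : ℕ) : ℤ := if k = 0 then 1 else if k + 1 < N then 2 else 1
def wC4 (N k : ℕ) : ℤ := if k = 0 then 2 else if k + 1 < N then 1 else 2
def eC4 (N k l : ℕ) : ℤ :=
  if k = 0 ∧ l = 1 then 2 else if l = k + 1 ∧ 1 ≤ k ∧ l + 2 ≤ N then 1
  else if l = k + 1 ∧ l + 1 = N then 2 else 0
def cB5 (N k : ℕ) : ℤ := if k = 0 then 1 else if k + 2 < N then 2 else 1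
def wB5 (k : ℕ) : ℤ := if k = 0 then 2 else 1
def eB5 (N k l : ℕ) : ℤ :=
  if k = 0 ∧ l = 1 then 2 else if l = k + 1 ∧ 1 ≤ k ∧ l + 2 ≤ N then 1
  else if k + 3 = N ∧ l + 1 = N then 1 else 0
def cB6 (N k : ℕ) : ℤ := if k + 2 < N then 2 else 1
def wB6 (k : ℕ) : ℤ := if k = 0 then 1 else 2
def eB6 (N k l : ℕ) : ℤ :=
  if l = k + 1 ∧ l + 2 ≤ N then 2 else if k + 3 = N ∧ l + 1 = N then 2 else 0
def cD (N k : ℕ) : ℤ := if k ≤ 1 then 1 else if k + 2 < N then 2 else 1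
def eD (N k l : ℕ) : ℤ :=
  if k = 0 ∧ l = 2 then 1 else if k = 1 ∧ l = 2 then 1
  else if l = k + 1 ∧ 2 ≤ k ∧ l + 2 ≤ N then 1 else if k + 3 = N ∧ l + 1 = N then 1 else 0
/-- Table read off a list. -/
def ofList (L : List ℤ) (k : ℕ) : ℤ := L.getD k 0
def ofEdges (L : List (ℕ × ℕ × ℤ)) (k l : ℕ) : ℤ :=
  ((L.find? fun e => e.1 == k && e.2.1 == l).map fun e => e.2.2).getD 0

def cE6 := ofList [1, 2, 3, 1, 2, 1, 2]
def eE6 := ofEdges [(0, 1, 1), (1, 2, 1), (2, 4, 1), (2, 6, 1), (3, 4, 1), (5, 6, 1)]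
def cE7 := ofList [1, 2, 3, 4, 3, 2, 1, 2]
def eE7 := ofEdges [(0, 1, 1), (1, 2, 1), (2, 3, 1), (3, 4, 1), (4, 5, 1), (5, 6, 1), (3, 7, 1)]
def cE8 := ofList [1, 2, 3, 4, 5, 6, 4, 2, 3]
def eE8 := ofEdges [(0, 1, 1), (1, 2, 1), (2, 3, 1), (3, 4, 1), (4, 5, 1), (5, 6, 1), (6, 7, 1), (5, 8, 1)]
def cF4a := ofList [1, 2, 3, 2, 1]
def wF4a := ofList [1, 1, 1, 2, 2]
def eF4a := ofEdges [(0, 1, 1), (1, 2, 1), (2, 3, 2), (3, 4, 2)]
def cF4b := ofList [1, 2, 3, 4, 2]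
def wF4b := ofList [2, 2, 2, 1, 1]
def eF4b := ofEdges [(0, 1, 2), (1, 2, 2), (2, 3, 2), (3, 4, 1)]
def cG2a := ofList [1, 2, 1]
def wG2a := ofList [1, 1, 3]
def eG2a := ofEdges [(0, 1, 1), (1, 2, 3)]
def cG2b := ofList [1, 2, 3]
def wG2b := ofList [3, 3, 1]
def eG2b := ofEdges [(0, 1, 3), (1, 2, 3)]
def eA1a := ofEdges [(0, 1, 2)]
def cA1b := ofList [2, 1]
def wA1b := ofList [1, 4]
def eA1b := ofEdges [(0, 1, 4)]

end GrothLib.NumType
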