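import Groth.Agent.Lib.NumType.Basic
import Mathlib.LinearAlgebra.Dimension.Finrank
import Mathlib.LinearAlgebra.Dimension.RankNullity
import Mathlib.RingTheory.Finiteness.Cardinality
import Mathlib.LinearAlgebra.Dimension.Constructions
import Mathlib.LinearAlgebra.FreeModule.PID

/-!
# The Picard group of a numerical type
-/

namespace GrothLib.NumType

open Finset Matrix

variable {n : ℕ} (T : Models.NumericalType n)

theorem picMatrix_mul (i j : Fin n) : T.w i * T.picMatrix i j = T.a i j :=
  Int.mul_ediv_cancel' (T.w_dvd i j)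

theorem mul_picMatrix_mulVec (x : Fin n → ℤ) (i : Fin n) :
    T.w i * (T.picMatrix *ᵥ x) i = (T.a *ᵥ x) i := by
  simp only [Matrix.mulVec, dotProduct, Finset.mul_sum]
  exact Finset.sum_congr rfl fun j _ => by rw [← mul_assoc, picMatrix_mul]

theorem picMatrix_mulVec_eq_zero (x : Fin n → ℤ) : T.picMatrix *ᵥ x = 0 ↔ T.a *ᵥ x = 0 := by
  constructor <;> intro h <;> funext i
  · rw [← mul_picMatrix_mulVec, h]; simp
  · have := mul_picMatrix_mulVec T x i
    rw [h] at this
    exact (mul_eq_zero.mp this).resolve_left (T.w_pos i).ne'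

/-- The kernel of the intersection matrix consists of the vectors proportional to `m`. -/
theorem ker_prop (x : Fin n → ℤ) (hx : T.a *ᵥ x = 0) (i j : Fin n) : x i * T.m j = x j * T.m i := by
  have hb : ∀ k, 0 < x k + (1 + ∑ l, |x l|) * T.m k := by
    intro k
    have h1 := Finset.single_le_sum (fun l _ => abs_nonneg (x l)) (Finset.mem_univ k)
    have h2 := neg_abs_le (x k)
    have h3 := le_mul_of_one_le_right
      (show (0 : ℤ) ≤ 1 + ∑ l, |x l| by have := abs_nonneg (x k); omega)
      (show 1 ≤ T.m k from T.m_pos k)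
    omega
  obtain ⟨-, h, -⟩ := prop_of_nonneg_rows T.a T.m (fun k => x k + (1 + ∑ l, |x l|) * T.m k)
    T.offDiag_nonneg (conn T) T.m_pos T.mulVec_m (fun k => (hb k).le) ⟨i, (hb i).ne'⟩ (fun k _ => by
      have e : (fun k => x k + (1 + ∑ l, |x l|) * T.m k) = x + (1 + ∑ l, |x l|) • T.m := by
        funext k; simp
      rw [e, Matrix.mulVec_add, Matrix.mulVec_smul, hx, T.mulVec_m]; simp)
  have := h i j
  linarith

theorem finrank_pic : Module.finrank ℤ T.Pic = 1 := by
  set f := Matrix.mulVecLin T.picMatrix with hf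
  have hi : 0 < n := T.pos
  have hker : Module.finrank ℤ (LinearMap.ker f) = 1 := by
    refine le_antisymm ?_ ?_
    · have hinj : Function.Injective
          ((LinearMap.proj (⟨0, hi⟩ : Fin n) : (Fin n → ℤ) →ₗ[ℤ] ℤ).comp (LinearMap.ker f).subtype) := by
        rw [injective_iff_map_eq_zero]
        rintro ⟨x, hx⟩ h0
        ext k
        simp only [LinearMap.mem_ker, hf, Matrix.mulVecLin_apply, picMatrix_mulVec_eq_zero] at hx
        have := ker_prop T x hx k ⟨0, hi⟩
        simp only [LinearMap.comp_apply, Submodule.coe_subtype, LinearMap.proj_apply] at h0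
        rw [h0, zero_mul] at this
        exact (mul_eq_zero.mp this).resolve_right (T.m_pos _).ne'
      simpa using LinearMap.finrank_le_finrank_of_injective hinj
    · refine Submodule.one_le_finrank_iff.mpr fun h => ?_
      have hm : T.m ∈ LinearMap.ker f := by
        simp [hf, picMatrix_mulVec_eq_zero, T.mulVec_m]
      rw [h, Submodule.mem_bot] at hm
      exact (T.m_pos ⟨0, hi⟩).ne' (congrFun hm _)
  have h1 := Submodule.finrank_quotient_add_finrank (LinearMap.range f)
  have h2 := Submodule.finrank_quotient_add_finrank (LinearMap.ker f)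
  rw [hker, f.quotKerEquivRange.finrank_eq] at h2
  simp only [Module.finrank_fin_fun] at h1 h2
  show Module.finrank ℤ ((Fin n → ℤ) ⧸ LinearMap.range f) = 1
  omega

/-- Multiplication by the weights. -/
def weightMap : (Fin n → ℤ) →ₗ[ℤ] (Fin n → ℤ) where
  toFun x i := T.w i * x i
  map_add' x y := by funext i; simp [mul_add]
  map_smul' c x := by funext i; simp; ring

theorem range_le_comap_weightMap :
    LinearMap.range (Matrix.mulVecLin T.picMatrix) ≤
      (LinearMap.range (Matrix.mulVecLin T.a)).comap (weightMap T) := by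
  rintro _ ⟨x, rfl⟩
  exact ⟨x, funext fun i => (mul_picMatrix_mulVec T x i).symm⟩

/-- The map from the Picard group to the cokernel of the intersection matrix. -/
def picToCokerA : T.Pic →ₗ[ℤ] T.CokerA :=
  Submodule.mapQ _ _ (weightMap T) (range_le_comap_weightMap T)

theorem picToCokerA_injective : Function.Injective (picToCokerA T) := by
  rw [injective_iff_map_eq_zero]
  intro q
  obtain ⟨x, rfl⟩ := Submodule.Quotient.mk_surjective _ q
  intro h
  rw [picToCokerA, Submodule.mapQ_apply, Submodule.Quotient.mk_eq_zero] at h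
  obtain ⟨y, hy⟩ := h
  rw [Submodule.Quotient.mk_eq_zero]
  refine ⟨y, funext fun i => mul_left_cancel₀ (T.w_pos i).ne' ?_⟩
  rw [Matrix.mulVecLin_apply, mul_picMatrix_mulVec]
  exact congrFun hy i

section Reindex

/-- A numerical type with its indices permuted. -/
def reindexType (σ : Equiv.Perm (Fin n)) : Models.NumericalType n where
  m i := T.m (σ i)
  a := T.a.submatrix σ σ
  w i := T.w (σ i)
  g i := T.g (σ i)
  pos := T.pos
  m_pos i := T.m_pos _
  w_pos i := T.w_pos _
  g_nonneg i := T.g_nonneg _
  symm := T.symm.submatrix σ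
  offDiag_nonneg i j h := T.offDiag_nonneg _ _ (σ.injective.ne h)
  connected I hI hIu := by
    obtain ⟨i, hi, j, hj, h⟩ := T.connected (I.image σ) (hI.image σ) (fun h => hIu (by
      refine Finset.eq_univ_iff_forall.mpr fun k => ?_
      have := h ▸ Finset.mem_univ (σ k)
      simpa using this))
    simp only [mem_image] at hi hj
    obtain ⟨a, ha, rfl⟩ := hi
    refine ⟨a, ha, σ.symm j, fun hb => hj ⟨_, hb, σ.apply_symm_apply j⟩, ?_⟩
    simpa using h
  mulVec_m := by
    funext i
    simp only [Matrix.mulVec, dotProduct, Matrix.submatrix_apply, Pi.zero_apply]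
    rw [Equiv.sum_comp σ (fun j => T.a (σ i) j * T.m j)]
    exact row_sum T (σ i)
  w_dvd i j := T.w_dvd _ _

variable (σ : Equiv.Perm (Fin n))

theorem genus_reindex : (reindexType T σ).genus = T.genus := by
  simp only [Models.NumericalType.genus, reindexType, Matrix.submatrix_apply]
  rw [Equiv.sum_comp σ (fun i => T.m i * T.w i * (T.g i - 1)), Equiv.sum_comp σ (fun i => T.m i * T.a i i)]

theorem isMinusOne_reindex (i : Fin n) :
    (reindexType T σ).IsMinusOne i ↔ T.IsMinusOne (σ i) := Iff.rfl

/-- Permuting the indices does not change the Picard group. -/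
noncomputable def picReindexEquiv : (reindexType T σ).Pic ≃ₗ[ℤ] T.Pic :=
  Submodule.Quotient.equiv _ _ (LinearEquiv.funCongrLeft ℤ ℤ σ.symm) (by
    have key : ∀ x : Fin n → ℤ, (reindexType T σ).picMatrix *ᵥ x =
        fun i => (T.picMatrix *ᵥ (fun j => x (σ.symm j))) (σ i) := by
      intro x; funext i
      simp only [Matrix.mulVec, dotProduct]
      rw [← Equiv.sum_comp σ (fun j => T.picMatrix (σ i) j * x (σ.symm j))]
      simp [Models.NumericalType.picMatrix, reindexType]
    ext y
    simp only [Submodule.mem_map, LinearMap.mem_range, Matrix.mulVecLin_apply]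
    constructor
    · rintro ⟨_, ⟨x, rfl⟩, rfl⟩
      exact ⟨fun j => x (σ.symm j), funext fun j => by simp [key, LinearEquiv.funCongrLeft, LinearMap.funLeft]⟩
    · rintro ⟨x, rfl⟩
      exact ⟨_, ⟨fun j => x (σ j), rfl⟩, funext fun j => by simp [key, LinearEquiv.funCongrLeft, LinearMap.funLeft]⟩)

end Reindex

end GrothLib.NumType
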