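import Groth.Agent.Lib.NumType.Genus
import Groth.Agent.Lib.NumType.Pic
import Mathlib.RingTheory.Int.Basic

/-!
# Contracting a `(-1)`-index
-/

namespace GrothLib.NumType

open Finset Matrix

variable {n : ℕ} (T : Models.NumericalType (n + 1))

/-- The quotient `a i l / w l` for the last index `l`. -/
def cl (i : Fin n) : ℤ := T.a i.castSucc (Fin.last n) / T.w (Fin.last n)

/-- The quotient `a i l / w i`. -/
def ql (i : Fin n) : ℤ := T.a i.castSucc (Fin.last n) / T.w i.castSucc

theorem a_eq_cl (i : Fin n) : T.a i.castSucc (Fin.last n) = T.w (Fin.last n) * cl T i :=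
  (Int.mul_ediv_cancel' (by rw [a_comm]; exact T.w_dvd _ _)).symm

theorem a_eq_ql (i : Fin n) : T.a i.castSucc (Fin.last n) = T.w i.castSucc * ql T i :=
  (Int.mul_ediv_cancel' (T.w_dvd _ _)).symm

theorem cl_nonneg (i : Fin n) : 0 ≤ cl T i :=
  Int.ediv_nonneg (T.offDiag_nonneg _ _ (Fin.castSucc_ne_last i)) (T.w_pos _).le

theorem ql_nonneg (i : Fin n) : 0 ≤ ql T i :=
  Int.ediv_nonneg (T.offDiag_nonneg _ _ (Fin.castSucc_ne_last i)) (T.w_pos _).le

open Classical in
/-- The new weights. -/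
noncomputable def wc (i : Fin n) : ℤ :=
  if 2 ∣ cl T i ∧ ¬ 2 ∣ ql T i then T.w i.castSucc / 2 else T.w i.castSucc

/-- `w i = d i * w' i` with `d i ∈ {1, 2}`, together with the parity information. -/
theorem wc_spec (i : Fin n) : ∃ d : ℤ, T.w i.castSucc = d * wc T i ∧ 0 < wc T i ∧
    ((d = 1 ∧ ¬ (2 ∣ cl T i ∧ ¬ 2 ∣ ql T i)) ∨ (d = 2 ∧ 2 ∣ cl T i ∧ ¬ 2 ∣ ql T i)) := by
  classical
  by_cases h : 2 ∣ cl T i ∧ ¬ 2 ∣ ql T i
  · have h2w : 2 ∣ T.w i.castSucc := by
      have e : T.w i.castSucc * ql T i = T.w (Fin.last n) * cl T i := by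
        rw [← a_eq_ql, ← a_eq_cl]
      have : (2 : ℤ) ∣ T.w i.castSucc * ql T i := by rw [e]; exact h.1.mul_left _
      exact (Int.prime_two.dvd_or_dvd this).resolve_right h.2
    refine ⟨2, ?_, ?_, .inr ⟨rfl, h.1, h.2⟩⟩
    · rw [wc, if_pos h, Int.mul_ediv_cancel' h2w]
    · rw [wc, if_pos h]
      obtain ⟨k, hk⟩ := h2w
      have := T.w_pos i.castSucc
      omega
  · exact ⟨1, by rw [wc, if_neg h, one_mul], by rw [wc, if_neg h]; exact T.w_pos _, .inl ⟨rfl, h⟩⟩

/-- The contracted intersection matrix. -/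
def ac : Matrix (Fin n) (Fin n) ℤ := fun i j =>
  T.a i.castSucc j.castSucc + T.w (Fin.last n) * cl T i * cl T j

/-- The contracted genera. -/
noncomputable def gc (i : Fin n) : ℤ :=
  T.w i.castSucc / wc T i * (T.g i.castSucc - 1) + 1 +
    (T.a i.castSucc (Fin.last n) ^ 2 - T.w (Fin.last n) * T.a i.castSucc (Fin.last n)) /
      (2 * wc T i * T.w (Fin.last n))

variable {T} (h : T.IsMinusOne (Fin.last n))

include h in
theorem ac_eq (i j : Fin n) : ac T i j = T.a i.castSucc j.castSucc -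
    T.a i.castSucc (Fin.last n) * T.a j.castSucc (Fin.last n) / T.a (Fin.last n) (Fin.last n) := by
  rw [ac, h.2, a_eq_cl, a_eq_cl, Int.ediv_neg,
    show T.w (Fin.last n) * cl T i * (T.w (Fin.last n) * cl T j) =
      T.w (Fin.last n) * (T.w (Fin.last n) * cl T i * cl T j) by ring,
    Int.mul_ediv_cancel_left _ (T.w_pos _).ne']
  ring

include h in
theorem sum_cl_m : ∑ j : Fin n, cl T j * T.m j.castSucc = T.m (Fin.last n) := by
  have h0 := row_sum T (Fin.last n)
  rw [Fin.sum_univ_castSucc, h.2] at h0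
  have e : ∑ j : Fin n, T.a (Fin.last n) j.castSucc * T.m j.castSucc =
      T.w (Fin.last n) * ∑ j : Fin n, cl T j * T.m j.castSucc := by
    rw [Finset.mul_sum]
    exact Finset.sum_congr rfl fun j _ => by rw [a_comm, a_eq_cl]; ring
  rw [e] at h0
  have : T.w (Fin.last n) * (∑ j : Fin n, cl T j * T.m j.castSucc - T.m (Fin.last n)) = 0 := by linarith
  exact sub_eq_zero.mp ((mul_eq_zero.mp this).resolve_left (T.w_pos _).ne')

include h in
theorem pos_of_minusOne : 0 < n := by
  by_contra hn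
  obtain rfl : n = 0 := by omega
  have := row_sum T (Fin.last 0)
  rw [Fin.sum_univ_one, show (0 : Fin 1) = Fin.last 0 from rfl, h.2] at this
  have := mul_pos (T.w_pos (Fin.last 0)) (T.m_pos (Fin.last 0))
  linarith

/-- The genus formula in divided form. -/
theorem gc_spec (i : Fin n) : ∃ d X : ℤ, T.w i.castSucc = d * wc T i ∧ 0 < d ∧ d ≤ 2 ∧
    2 * wc T i * X = T.w (Fin.last n) * cl T i * (cl T i - 1) ∧
    gc T i = d * (T.g i.castSucc - 1) + 1 + X ∧ 0 ≤ gc T i := by
  obtain ⟨d, hd, hwc, hcase⟩ := wc_spec T i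
  have hnum : T.w (Fin.last n) * cl T i = wc T i * (d * ql T i) := by
    rw [← a_eq_cl, a_eq_ql, hd]; ring
  have heven : 2 ∣ d * ql T i * (cl T i - 1) := by
    rcases hcase with ⟨rfl, h1⟩ | ⟨rfl, -, -⟩
    · by_cases hc : 2 ∣ cl T i
      · have : 2 ∣ ql T i := by by_contra hq; exact h1 ⟨hc, hq⟩
        rw [one_mul]; exact this.mul_right _
      · exact Dvd.dvd.mul_left (by omega) _
    · exact Dvd.dvd.mul_right (dvd_mul_right _ _) _
  obtain ⟨X, hX⟩ := heven
  have hX' : 2 * wc T i * X = T.w (Fin.last n) * cl T i * (cl T i - 1) := by rw [hnum]; linear_combination -(wc T i) * hX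
  have hgc : gc T i = d * (T.g i.castSucc - 1) + 1 + X := by
    have h1 : T.w i.castSucc / wc T i = d := by rw [hd, Int.mul_ediv_cancel _ hwc.ne']
    have h2 : T.a i.castSucc (Fin.last n) ^ 2 - T.w (Fin.last n) * T.a i.castSucc (Fin.last n) =
        2 * wc T i * T.w (Fin.last n) * X := by
      rw [a_eq_cl]; linear_combination -(T.w (Fin.last n)) * hX'
    have hne : (2 * wc T i * T.w (Fin.last n)) ≠ 0 :=
      mul_ne_zero (mul_ne_zero two_ne_zero hwc.ne') (T.w_pos _).ne'
    rw [gc, h1, h2, Int.mul_ediv_cancel_left _ hne]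
  have hd' : 0 < d ∧ d ≤ 2 := by rcases hcase with ⟨rfl, -⟩ | ⟨rfl, -⟩ <;> norm_num
  refine ⟨d, X, hd, hd'.1, hd'.2, hX', hgc, ?_⟩
  rw [hgc]
  have hg := T.g_nonneg i.castSucc
  have hc := cl_nonneg T i
  have hq := ql_nonneg T i
  have hdg : d * (-1) ≤ d * (T.g i.castSucc - 1) := mul_le_mul_of_nonneg_left (by omega) hd'.1.le
  have hX0 : 0 ≤ X ∨ cl T i = 0 := by
    rcases (show cl T i = 0 ∨ 1 ≤ cl T i by omega) with h0 | h0
    · exact .inr h0
    · left
      have := mul_nonneg (mul_nonneg hd'.1.le hq) (show 0 ≤ cl T i - 1 by omega)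
      omega
  rcases hcase with ⟨rfl, -⟩ | ⟨rfl, hc2, hq2⟩
  · rcases hX0 with h0 | h0
    · omega
    · have : X = 0 := by
        rw [h0] at hX'; simp only [mul_zero, zero_mul, mul_eq_zero] at hX'
        simpa [hwc.ne'] using hX'
      omega
  · have hc0 : cl T i ≠ 0 := fun h0 => by
      rw [h0, mul_zero] at hnum
      have := (mul_eq_zero.mp hnum.symm).resolve_left hwc.ne'
      exact hq2 ⟨0, by omega⟩
    have : 1 ≤ ql T i * (cl T i - 1) :=
      mul_pos (show 0 < ql T i by omega) (show 0 < cl T i - 1 by omega)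
    rw [mul_assoc] at hX
    omega

include h in
theorem conn_ac : ∀ I : Finset (Fin n), I.Nonempty → I ≠ univ → ∃ i ∈ I, ∃ j ∉ I, ac T i j ≠ 0 := by
  classical
  intro I hI hIu
  by_contra hc
  push Not at hc
  have hzero : ∀ i ∈ I, ∀ j ∉ I, T.a i.castSucc j.castSucc = 0 ∧ (cl T i = 0 ∨ cl T j = 0) := by
    intro i hi j hj
    have h0 := hc i hi j hj
    have hne : i.castSucc ≠ j.castSucc := fun e => hj ((Fin.castSucc_injective n e) ▸ hi)
    have h1 := T.offDiag_nonneg _ _ hne
    have h2 := mul_nonneg (mul_nonneg (T.w_pos (Fin.last n)).le (cl_nonneg T i)) (cl_nonneg T j)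
    rw [ac] at h0
    have h3 : T.w (Fin.last n) * cl T i * cl T j = 0 := by omega
    exact ⟨by omega, (mul_eq_zero.mp h3).imp_left fun h => (mul_eq_zero.mp h).resolve_left (T.w_pos _).ne'⟩
  obtain ⟨J, hJn, hJu, hJclosed⟩ : ∃ J : Finset (Fin (n + 1)), J.Nonempty ∧ J ≠ univ ∧
      ∀ x ∈ J, ∀ y ∉ J, T.a x y = 0 := by
    obtain ⟨j₀, hj₀⟩ : ∃ j, j ∉ I := by
      by_contra hh; push Not at hh; exact hIu (eq_univ_iff_forall.mpr hh)
    obtain ⟨i₀, hi₀⟩ := hI
    by_cases hl : ∃ i ∈ I, cl T i ≠ 0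
    · -- the last index joins `I`
      obtain ⟨i, hi, hci⟩ := hl
      refine ⟨insert (Fin.last n) (I.image Fin.castSucc), insert_nonempty _ _, fun h => ?_, ?_⟩
      · have := h ▸ mem_univ j₀.castSucc
        simp only [mem_insert, mem_image, Fin.castSucc_inj, exists_eq_right] at this
        rcases this with e | e
        · exact Fin.castSucc_ne_last _ e
        · exact hj₀ e
      · intro x hx y hy
        simp only [mem_insert, mem_image, not_or] at hx hy
        obtain ⟨y, rfl⟩ := Fin.exists_castSucc_eq.mpr hy.1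
        have hyI : y ∉ I := fun e => hy.2 ⟨y, e, rfl⟩
        rcases hx with rfl | ⟨x, hx, rfl⟩
        · rw [a_comm, a_eq_cl, ((hzero i hi y hyI).2.resolve_left hci), mul_zero]
        · exact (hzero x hx y hyI).1
    · push Not at hl
      refine ⟨I.image Fin.castSucc, ⟨_, mem_image_of_mem _ hi₀⟩, fun h => ?_, ?_⟩
      · have := h ▸ mem_univ (Fin.last n)
        simp only [mem_image] at this
        obtain ⟨a, -, e⟩ := this
        exact Fin.castSucc_ne_last _ e
      · intro x hx y hy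
        simp only [mem_image] at hx hy
        obtain ⟨x, hx, rfl⟩ := hx
        rcases Fin.eq_castSucc_or_eq_last y with ⟨y, rfl⟩ | rfl
        · exact (hzero x hx y (fun e => hy ⟨y, e, rfl⟩)).1
        · rw [a_eq_cl, hl x hx, mul_zero]
  obtain ⟨x, hx, y, hy, hxy⟩ := T.connected J hJn hJu
  exact hxy (hJclosed x hx y hy)

/-- The contraction. -/
noncomputable def contract : Models.NumericalType n where
  m i := T.m i.castSucc
  a := ac T
  w := wc T
  g := gc T
  pos := pos_of_minusOne h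
  m_pos i := T.m_pos _
  w_pos i := by obtain ⟨d, -, hp, -⟩ := wc_spec T i; exact hp
  g_nonneg i := by obtain ⟨d, X, -, -, -, -, -, hg⟩ := gc_spec (T := T) i; exact hg
  symm := by
    ext i j
    simp only [Matrix.transpose_apply, ac]
    rw [a_comm]; ring
  offDiag_nonneg i j hij := add_nonneg
    (T.offDiag_nonneg _ _ fun e => hij (Fin.castSucc_injective n e))
    (mul_nonneg (mul_nonneg (T.w_pos _).le (cl_nonneg T i)) (cl_nonneg T j))
  connected := conn_ac h
  mulVec_m := by
    funext i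
    have h0 := row_sum T i.castSucc
    rw [Fin.sum_univ_castSucc, a_eq_cl] at h0
    have hs := sum_cl_m h
    simp only [Matrix.mulVec, dotProduct, ac, add_mul, Finset.sum_add_distrib, Pi.zero_apply]
    have : ∑ j : Fin n, T.w (Fin.last n) * cl T i * cl T j * T.m j.castSucc =
        T.w (Fin.last n) * cl T i * T.m (Fin.last n) := by
      rw [← hs, Finset.mul_sum]; exact Finset.sum_congr rfl fun j _ => by ring
    rw [this]; linarith
  w_dvd i j := by
    obtain ⟨d, hd, -, -⟩ := wc_spec T i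
    have hdw : wc T i ∣ T.w i.castSucc := ⟨d, by rw [hd, mul_comm]⟩
    refine dvd_add (hdw.trans (T.w_dvd _ _)) (Dvd.dvd.mul_right ?_ _)
    rw [← a_eq_cl]; exact hdw.trans (T.w_dvd _ _)

theorem isContraction_contract : T.IsContraction (contract h) := by
  refine ⟨fun i => rfl, fun i j => ac_eq h i j, fun i => ?_, fun i => rfl⟩
  show wc T i = _
  classical
  unfold wc cl ql
  split_ifs <;> rfl

include h in
theorem genus_of_isContraction (T' : Models.NumericalType n) (hT' : T.IsContraction T') :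
    T'.genus = T.genus := by
  obtain ⟨hm, ha, hw, hg⟩ := hT'
  have hc := isContraction_contract h
  have hw' : ∀ i, T'.w i = wc T i := fun i => (hw i).trans (hc.2.2.1 i).symm
  have ha' : ∀ i j, T'.a i j = ac T i j := fun i j => (ha i j).trans (ac_eq h i j).symm
  have hg' : ∀ i, T'.g i = gc T i := fun i => by rw [hg, gc, hw']
  have key : ∀ i, contrib T' i =
      contrib T i.castSucc - T.w (Fin.last n) * (cl T i * T.m i.castSucc) := by
    intro i
    obtain ⟨d, X, hd, -, -, hX, hgc, -⟩ := gc_spec (T := T) i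
    simp only [contrib, hm, hw', ha', hg', hgc, ac, hd]
    linear_combination (T.m i.castSucc) * hX
  have hlast : contrib T (Fin.last n) = -(T.w (Fin.last n) * T.m (Fin.last n)) := by
    simp only [contrib, h.1, h.2]; ring
  have e1 := two_genus T
  have e2 := two_genus T'
  rw [Finset.sum_congr rfl fun i _ => key i, Finset.sum_sub_distrib, ← Finset.mul_sum, sum_cl_m h] at e2
  rw [Fin.sum_univ_castSucc, hlast] at e1
  omega

include h in
/-- The map on Picard groups. -/
theorem exists_pic_map (T' : Models.NumericalType n) (hT' : T.IsContraction T') :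
    ∃ f : T.Pic →ₗ[ℤ] T'.Pic, Function.Injective f ∧ ∀ y : T'.Pic, ∃ x : T.Pic, 2 • y = f x := by
  obtain ⟨hm, ha, hw, hg⟩ := hT'
  have hw' : ∀ i, T'.w i = wc T i := fun i => (hw i).trans ((isContraction_contract h).2.2.1 i).symm
  have ha' : ∀ i j, T'.a i j = ac T i j := fun i j => (ha i j).trans (ac_eq h i j).symm
  choose d hd hwpos hcase using wc_spec T
  set φ : (Fin (n + 1) → ℤ) →ₗ[ℤ] (Fin n → ℤ) :=
    { toFun := fun y i => d i * (y i.castSucc + ql T i * y (Fin.last n))
      map_add' := fun x y => by funext i; simp only [Pi.add_apply]; ring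
      map_smul' := fun c x => by funext i; simp; ring }
  -- the basic identity
  have hlast : ∀ x : Fin (n + 1) → ℤ, (T.picMatrix *ᵥ x) (Fin.last n) =
      (∑ j : Fin n, cl T j * x j.castSucc) - x (Fin.last n) := by
    intro x
    refine mul_left_cancel₀ (T.w_pos (Fin.last n)).ne' ?_
    rw [mul_picMatrix_mulVec, mul_sub, Finset.mul_sum]
    simp only [Matrix.mulVec, dotProduct]
    rw [Fin.sum_univ_castSucc, h.2]
    rw [Finset.sum_congr rfl fun j _ => show T.a (Fin.last n) (Fin.castSucc j) * x j.castSucc =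
      T.w (Fin.last n) * (cl T j * x j.castSucc) by rw [a_comm, a_eq_cl]; ring]
    ring
  have hmain : ∀ (x : Fin (n + 1) → ℤ) (i : Fin n),
      T'.w i * φ (T.picMatrix *ᵥ x) i = (T'.a *ᵥ fun j => x j.castSucc) i := by
    intro x i
    have e1 := mul_picMatrix_mulVec T x i.castSucc
    simp only [φ, LinearMap.coe_mk, AddHom.coe_mk, hw', hlast]
    simp only [Matrix.mulVec, dotProduct] at e1 ⊢
    simp only [Fin.sum_univ_castSucc, a_eq_cl] at e1 ⊢
    simp only [ha', ac, add_mul, Finset.sum_add_distrib]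
    rw [Finset.sum_congr rfl fun j _ => show T.w (Fin.last n) * cl T i * cl T j * x j.castSucc =
      T.w (Fin.last n) * cl T i * (cl T j * x j.castSucc) by ring, ← Finset.mul_sum]
    have e2 : wc T i * d i = T.w i.castSucc := by rw [mul_comm, ← hd]
    have e3 := (a_eq_cl T i).symm.trans (a_eq_ql T i)
    linear_combination e1 + (∑ j : Fin n, T.picMatrix i.castSucc j.castSucc * x j.castSucc +
      T.picMatrix i.castSucc (Fin.last n) * x (Fin.last n) +
      ql T i * (∑ j : Fin n, cl T j * x j.castSucc - x (Fin.last n))) * e2 -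
      (∑ j : Fin n, cl T j * x j.castSucc - x (Fin.last n)) * e3
  have hle : LinearMap.range (Matrix.mulVecLin T.picMatrix) ≤
      (LinearMap.range (Matrix.mulVecLin T'.picMatrix)).comap φ := by
    rintro _ ⟨x, rfl⟩
    refine ⟨fun j => x j.castSucc, funext fun i => mul_left_cancel₀ (T'.w_pos i).ne' ?_⟩
    rw [Matrix.mulVecLin_apply, mul_picMatrix_mulVec, Matrix.mulVecLin_apply, hmain]
  refine ⟨Submodule.mapQ _ _ φ hle, ?_, ?_⟩
  · rw [injective_iff_map_eq_zero]
    intro q
    obtain ⟨y, rfl⟩ := Submodule.Quotient.mk_surjective _ q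
    intro h0
    rw [Submodule.mapQ_apply, Submodule.Quotient.mk_eq_zero] at h0
    obtain ⟨x', hx'⟩ := h0
    rw [Submodule.Quotient.mk_eq_zero]
    set x : Fin (n + 1) → ℤ :=
      Fin.snoc x' (∑ j : Fin n, cl T j * x' j - y (Fin.last n))
    have hxc : ∀ j : Fin n, x j.castSucc = x' j := fun j => Fin.snoc_castSucc ..
    have hxl : (T.picMatrix *ᵥ x) (Fin.last n) = y (Fin.last n) := by
      rw [hlast]
      simp [hxc, x]
    refine ⟨x, funext fun i => ?_⟩
    rcases Fin.eq_castSucc_or_eq_last i with ⟨i, rfl⟩ | rfl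
    · have e := hmain x i
      rw [show (fun j : Fin n => x j.castSucc) = x' from funext hxc,
        ← mul_picMatrix_mulVec T' x' i, ← Matrix.mulVecLin_apply T'.picMatrix x', hx'] at e
      have e' := mul_left_cancel₀ (T'.w_pos i).ne' e
      simp only [φ, LinearMap.coe_mk, AddHom.coe_mk, hxl] at e'
      have hd0 : d i ≠ 0 := by rcases hcase i with ⟨e, -⟩ | ⟨e, -⟩ <;> omega
      have := mul_left_cancel₀ hd0 e'
      rw [Matrix.mulVecLin_apply]
      linarith
    · exact hxl
  · intro q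
    obtain ⟨y, rfl⟩ := Submodule.Quotient.mk_surjective _ q
    refine ⟨Submodule.Quotient.mk (Fin.snoc (fun i => (if d i = 1 then 2 else 1) * y i) 0), ?_⟩
    rw [Submodule.mapQ_apply, ← Submodule.Quotient.mk_smul]
    refine congrArg _ (funext fun i => ?_)
    simp only [φ, LinearMap.coe_mk, AddHom.coe_mk, Fin.snoc_castSucc, Fin.snoc_last, Pi.smul_apply]
    rcases hcase i with ⟨e, -⟩ | ⟨e, -⟩ <;> simp [e]

end GrothLib.NumType
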