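import Groth.Agent.Lib.NumType.Affine

/-!
# The exceptional affine configurations
-/

namespace GrothLib.NumType

open Finset

variable {n : ℕ} {T : Models.NumericalType n}

theorem cfg_E6 {v : ℕ → Fin n} (hinj : Set.InjOn v {k | k < 7}) (h2 : M2 T v 7)
    (a01 : Adj T (v 0) (v 1)) (a12 : Adj T (v 1) (v 2)) (a24 : Adj T (v 2) (v 4))
    (a26 : Adj T (v 2) (v 6)) (a34 : Adj T (v 3) (v 4)) (a56 : Adj T (v 5) (v 6)) :
    7 = n ∧ IsType T cE6 one (tbl one eE6) := by
  refine isType_of_tbl 7 v _ _ _ hinj h2 (by decide) (by decide) ⟨0, by decide⟩ ⟨0, by decide⟩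
    (by decide) (fun k l hkl hl he => ?_)
  have := a01.le_left; have := a01.le_right; have := a12.le_left; have := a12.le_right
  have := a24.le_left; have := a24.le_right; have := a26.le_left; have := a26.le_right
  have := a34.le_left; have := a34.le_right; have := a56.le_left; have := a56.le_right
  interval_cases l <;> interval_cases k <;> simp_all [eE6, ofEdges, one]

theorem cfg_E7 {v : ℕ → Fin n} (hinj : Set.InjOn v {k | k < 8}) (h2 : M2 T v 8)
    (hp : ∀ k, k + 1 < 7 → Adj T (v k) (v (k + 1))) (hb : Adj T (v 3) (v 7)) :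
    8 = n ∧ IsType T cE7 one (tbl one eE7) := by
  refine isType_of_tbl 8 v _ _ _ hinj h2 (by decide) (by decide) ⟨0, by decide⟩ ⟨0, by decide⟩
    (by decide) (fun k l hkl hl he => ?_)
  have := hb.le_left; have := hb.le_right
  have hk : (l = k + 1 ∧ l < 7) ∨ (k = 3 ∧ l = 7) := by
    interval_cases l <;> interval_cases k <;> simp_all [eE7, ofEdges]
  rcases hk with ⟨rfl, h⟩ | ⟨rfl, rfl⟩
  · have := (hp k h).le_left; have := (hp k h).le_right
    have : k < 6 := by omega
    interval_cases k <;> simp_all [eE7, ofEdges, one]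
  · simp_all [eE7, ofEdges, one]

theorem cfg_E8 {v : ℕ → Fin n} (hinj : Set.InjOn v {k | k < 9}) (h2 : M2 T v 9)
    (hp : ∀ k, k + 1 < 8 → Adj T (v k) (v (k + 1))) (hb : Adj T (v 5) (v 8)) :
    9 = n ∧ IsType T cE8 one (tbl one eE8) := by
  refine isType_of_tbl 9 v _ _ _ hinj h2 (by decide) (by decide) ⟨0, by decide⟩ ⟨0, by decide⟩
    (by decide) (fun k l hkl hl he => ?_)
  have := hb.le_left; have := hb.le_right
  have hk : (l = k + 1 ∧ l < 8) ∨ (k = 5 ∧ l = 8) := by
    interval_cases l <;> interval_cases k <;> simp_all [eE8, ofEdges]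
  rcases hk with ⟨rfl, h⟩ | ⟨rfl, rfl⟩
  · have := (hp k h).le_left; have := (hp k h).le_right
    have : k < 7 := by omega
    interval_cases k <;> simp_all [eE8, ofEdges, one]
  · simp_all [eE8, ofEdges, one]

/-- Double edge in position `2` of a chain of five, small end first. -/
theorem cfg_F4a {v : ℕ → Fin n} (hp : IsPath T v 5) (h2 : M2 T v 5) (hd : Dbl T (v 2) (v 3)) :
    5 = n ∧ IsType T cF4a wF4a (tbl wF4a eF4a) := by
  refine isType_of_tbl 5 v _ _ _ hp.inj h2 (by decide) (by decide) ⟨0, by decide⟩ ⟨0, by decide⟩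
    (by decide) (fun k l hkl hl he => ?_)
  have hk : l = k + 1 := by interval_cases l <;> interval_cases k <;> simp_all [eF4a, ofEdges]
  subst hk
  have := (hp.adj k hl).le_left; have := (hp.adj k hl).le_right; have := hd.2
  have : k < 4 := by omega
  interval_cases k <;> simp [eF4a, wF4a, ofEdges, ofList] at * <;> omega

/-- Double edge in position `2` of a chain of five, large end first. -/
theorem cfg_F4b {v : ℕ → Fin n} (hp : IsPath T v 5) (h2 : M2 T v 5) (hd : Dbl T (v 3) (v 2)) :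
    5 = n ∧ IsType T cF4b wF4b (tbl wF4b eF4b) := by
  refine isType_of_tbl 5 v _ _ _ hp.inj h2 (by decide) (by decide) ⟨0, by decide⟩ ⟨3, by decide⟩
    (by decide) (fun k l hkl hl he => ?_)
  have hk : l = k + 1 := by interval_cases l <;> interval_cases k <;> simp_all [eF4b, ofEdges]
  subst hk
  have := (hp.adj k hl).le_left; have := (hp.adj k hl).le_right; have := hd.2
  rw [a_comm] at this
  have : k < 4 := by omega
  interval_cases k <;> simp [eF4b, wF4b, ofEdges, ofList] at * <;> omega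

theorem cfg_G2a {v : ℕ → Fin n} (hp : IsPath T v 3) (h2 : M2 T v 3) (hd : Trip T (v 1) (v 2)) :
    3 = n ∧ IsType T cG2a wG2a (tbl wG2a eG2a) := by
  refine isType_of_tbl 3 v _ _ _ hp.inj h2 (by decide) (by decide) ⟨0, by decide⟩ ⟨0, by decide⟩
    (by decide) (fun k l hkl hl he => ?_)
  have hk : l = k + 1 := by interval_cases l <;> interval_cases k <;> simp_all [eG2a, ofEdges]
  subst hk
  have := (hp.adj k hl).le_left; have := (hp.adj k hl).le_right; have := hd.2
  have : k < 2 := by omega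
  interval_cases k <;> simp [eG2a, wG2a, ofEdges, ofList] at * <;> omega

theorem cfg_G2b {v : ℕ → Fin n} (hp : IsPath T v 3) (h2 : M2 T v 3) (hd : Trip T (v 2) (v 1)) :
    3 = n ∧ IsType T cG2b wG2b (tbl wG2b eG2b) := by
  refine isType_of_tbl 3 v _ _ _ hp.inj h2 (by decide) (by decide) ⟨0, by decide⟩ ⟨2, by decide⟩
    (by decide) (fun k l hkl hl he => ?_)
  have hk : l = k + 1 := by interval_cases l <;> interval_cases k <;> simp_all [eG2b, ofEdges]
  subst hk
  have := (hp.adj k hl).le_left; have := (hp.adj k hl).le_right; have := hd.2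
  rw [a_comm] at this
  have : k < 2 := by omega
  interval_cases k <;> simp [eG2b, wG2b, ofEdges, ofList] at * <;> omega

theorem cfg_A1a {v : ℕ → Fin n} (hp : IsPath T v 2) (h2 : M2 T v 2) (hd : Dbl T (v 0) (v 1))
    (hd' : Dbl T (v 1) (v 0)) :
    2 = n ∧ IsType T one one (tbl one eA1a) := by
  refine isType_of_tbl 2 v _ _ _ hp.inj h2 (by decide) (by decide) ⟨0, by decide⟩ ⟨0, by decide⟩
    (by decide) (fun k l hkl hl he => ?_)
  obtain ⟨rfl, rfl⟩ : k = 0 ∧ l = 1 := ⟨by omega, by omega⟩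
  have := hd.2; have := hd'.2; rw [a_comm T (v 1) (v 0)] at this
  simp [eA1a, ofEdges, one]; omega

theorem cfg_A1b {v : ℕ → Fin n} (hp : IsPath T v 2) (h2 : M2 T v 2)
    (hd : 4 * T.w (v 0) ≤ T.a (v 0) (v 1)) :
    2 = n ∧ IsType T cA1b wA1b (tbl wA1b eA1b) := by
  refine isType_of_tbl 2 v _ _ _ hp.inj h2 (by decide) (by decide) ⟨1, by decide⟩ ⟨0, by decide⟩
    (by decide) (fun k l hkl hl he => ?_)
  obtain ⟨rfl, rfl⟩ : k = 0 ∧ l = 1 := ⟨by omega, by omega⟩
  have := (hp.adj 0 (by omega)).le_right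
  simp [eA1b, wA1b, ofEdges, ofList] at *; omega

end GrothLib.NumType
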