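import Groth.Agent.Lib.NumType.Basic
import Mathlib.Data.ZMod.Basic

/-!
# The genus of a numerical type
-/

namespace GrothLib.NumType

open Finset

variable {n : ℕ} (T : Models.NumericalType n)

theorem two_dvd_sum_m_mul_diag : (2 : ℤ) ∣ ∑ i, T.m i * T.a i i := by
  rw [show (2 : ℤ) = ((2 : ℕ) : ℤ) from rfl, ← ZMod.intCast_zmod_eq_zero_iff_dvd]
  have h2 : ∀ x : ZMod 2, x + x = 0 := by decide
  have hsq : ∀ x : ZMod 2, x * x = x := by decide
  set f : Fin n × Fin n → ZMod 2 := fun p => (T.a p.1 p.2 : ZMod 2) * T.m p.1 * T.m p.2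
  have htot : ∑ p, f p = 0 := by
    rw [Fintype.sum_prod_type]
    refine Finset.sum_eq_zero fun i _ => ?_
    have h0 := congrArg (fun z : ℤ => (z : ZMod 2)) (row_sum T i)
    push_cast at h0
    calc ∑ j, f (i, j) = (T.m i : ZMod 2) * ∑ j, (T.a i j : ZMod 2) * T.m j := by
          rw [Finset.mul_sum]; exact Finset.sum_congr rfl fun j _ => by simp only [f]; ring
      _ = 0 := by rw [h0, mul_zero]
  have hoff : ∑ p ∈ univ.filter (fun p : Fin n × Fin n => p.1 ≠ p.2), f p = 0 := by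
    refine Finset.sum_involution (fun p _ => p.swap) (fun p _ => ?_) (fun p hp _ h => ?_)
      (fun p hp => ?_) (fun p _ => Prod.swap_swap p)
    · simp only [f, Prod.fst_swap, Prod.snd_swap, a_comm T p.2 p.1]
      rw [mul_right_comm _ (T.m p.2 : ZMod 2)]; exact h2 _
    · simp only [mem_filter, mem_univ, true_and] at hp
      exact hp (congrArg Prod.snd h)
    · simp only [mem_filter, mem_univ, true_and, Prod.fst_swap, Prod.snd_swap] at hp ⊢
      exact Ne.symm hp
  rw [← Finset.sum_filter_add_sum_filter_not univ (fun p : Fin n × Fin n => p.1 ≠ p.2), hoff,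
    zero_add] at htot
  push_cast
  rw [← htot]
  refine Finset.sum_bij (fun i _ => (i, i)) (fun i _ => by simp) (fun i _ j _ h => congrArg Prod.fst h)
    (fun p hp => ⟨p.1, mem_univ _, ?_⟩) (fun i _ => ?_)
  · simp only [mem_filter, not_not] at hp
    exact Prod.ext rfl hp.2
  · simp only [f]; rw [mul_assoc, hsq, mul_comm]

/-- The contribution of an index to `2 genus - 2`. -/
def contrib (i : Fin n) : ℤ := T.m i * (2 * T.w i * (T.g i - 1) - T.a i i)

theorem two_genus : 2 * T.genus = 2 + ∑ i, contrib T i := by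
  obtain ⟨k, hk⟩ := two_dvd_sum_m_mul_diag T
  have h1 : ∑ i, contrib T i = 2 * (∑ i, T.m i * T.w i * (T.g i - 1)) - ∑ i, T.m i * T.a i i := by
    rw [Finset.mul_sum, ← Finset.sum_sub_distrib]
    exact Finset.sum_congr rfl fun i _ => by unfold contrib; ring
  rw [Models.NumericalType.genus, h1, hk, Int.mul_ediv_cancel_left k (by norm_num)]
  ring

theorem diag_neg (hn : 1 < n) (i : Fin n) : T.a i i < 0 := by
  obtain ⟨j, hj⟩ := exists_adj (T := T) hn i
  have h := row_le (T := T) {j} (by simpa using hj.ne)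
  rw [sum_singleton] at h
  have := mul_pos hj.pos (T.m_pos j)
  by_contra hc
  have := mul_nonneg (not_lt.mp hc) (T.m_pos i).le
  linarith

theorem exists_diag_mult (hn : 1 < n) (i : Fin n) : ∃ p : ℤ, 1 ≤ p ∧ T.a i i = -(T.w i * p) := by
  obtain ⟨q, hq⟩ := T.w_dvd i i
  refine ⟨-q, ?_, by rw [hq]; ring⟩
  have := diag_neg T hn i
  by_contra hc
  rw [hq] at this
  have := mul_nonneg (T.w_pos i).le (show (0 : ℤ) ≤ q by omega)
  omega

theorem isMinusOne_of_contrib_neg (hn : 1 < n) (i : Fin n) (h : contrib T i < 0) : T.IsMinusOne i := by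
  obtain ⟨p, hp, hpa⟩ := exists_diag_mult T hn i
  have h' : 2 * T.w i * (T.g i - 1) - T.a i i < 0 := by
    by_contra hc; exact absurd (mul_nonneg (T.m_pos i).le (not_lt.mp hc)) (not_le.mpr h)
  have h'' : T.w i * (2 * (T.g i - 1) + p) < 0 := by rw [hpa] at h'; linarith
  have h3 : 2 * (T.g i - 1) + p < 0 := by
    by_contra hc; exact absurd (mul_nonneg (T.w_pos i).le (not_lt.mp hc)) (not_le.mpr h'')
  have := T.g_nonneg i
  obtain ⟨hg, rfl⟩ : T.g i = 0 ∧ p = 1 := ⟨by omega, by omega⟩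
  exact ⟨hg, by rw [hpa, mul_one]⟩

theorem contrib_nonneg (hn : 1 < n) (i : Fin n) (h : ¬ T.IsMinusOne i) : 0 ≤ contrib T i :=
  not_lt.mp fun hc => h (isMinusOne_of_contrib_neg T hn i hc)

theorem isMinusTwo_of_contrib_zero (hn : 1 < n) (i : Fin n) (h : contrib T i = 0) : T.IsMinusTwo i := by
  obtain ⟨p, hp, hpa⟩ := exists_diag_mult T hn i
  have h' : 2 * T.w i * (T.g i - 1) - T.a i i = 0 := (mul_eq_zero.mp h).resolve_left (T.m_pos i).ne'
  have h'' : T.w i * (2 * (T.g i - 1) + p) = 0 := by rw [hpa] at h'; linarith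
  have h3 := (mul_eq_zero.mp h'').resolve_left (T.w_pos i).ne'
  have := T.g_nonneg i
  obtain ⟨hg, rfl⟩ : T.g i = 0 ∧ p = 2 := ⟨by omega, by omega⟩
  exact ⟨hg, by rw [hpa]; ring⟩

theorem one_le_genus_of_isMinimal (hmin : T.IsMinimal) (hn : 1 < n) : 1 ≤ T.genus := by
  have := two_genus T
  have h : 0 ≤ ∑ i, contrib T i := Finset.sum_nonneg fun i _ => contrib_nonneg T hn i (hmin i)
  omega

theorem isMinusTwo_of_genus_one (hmin : T.IsMinimal) (hn : 1 < n) (hg : T.genus = 1) (i : Fin n) :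
    T.IsMinusTwo i := by
  have h := two_genus T
  have h0 : ∑ i, contrib T i = 0 := by omega
  exact isMinusTwo_of_contrib_zero T hn i
    ((Finset.sum_eq_zero_iff_of_nonneg fun j _ => contrib_nonneg T hn j (hmin j)).mp h0 i (mem_univ _))

end GrothLib.NumType
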