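import Groth.Agent.Lib.NumType.Genus
import Mathlib.Algebra.BigOperators.Field
import Mathlib.Tactic.Positivity

/-!
# The topological genus
-/

namespace GrothLib.NumType

open Finset

variable {n : ℕ} (T : Models.NumericalType n)

theorem exists_edges_ge (k : ℕ) (hk : 1 ≤ k) (hkn : k ≤ n) :
    ∃ (s : Finset (Fin n)) (E : Finset (Fin n × Fin n)), s.card = k ∧ k ≤ E.card + 1 ∧
      ∀ p ∈ E, p.1 ∈ s ∧ p.2 ∈ s ∧ p.1 < p.2 ∧ 0 < T.a p.1 p.2 := by
  induction k with
  | zero => omega
  | succ k ih =>
    rcases Nat.eq_zero_or_pos k with rfl | hk'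
    · exact ⟨{⟨0, by omega⟩}, ∅, by simp, by simp, by simp⟩
    obtain ⟨s, E, hs, hE, hp⟩ := ih hk' (by omega)
    obtain ⟨i, hi, j, hj, h⟩ := exists_adj_out (T := T) s (card_pos.mp (by omega)) (by omega)
    have hnew : ∀ q : Fin n × Fin n, (q.1 = j ∨ q.2 = j) → q ∉ E := fun q hq hqE => by
      obtain ⟨h1, h2, -, -⟩ := hp q hqE
      rcases hq with rfl | rfl <;> contradiction
    rcases lt_or_gt_of_ne h.ne with hlt | hlt
    · refine ⟨insert j s, insert (i, j) E, by rw [card_insert_of_notMem hj, hs],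
        by rw [card_insert_of_notMem (hnew _ (.inr rfl))]; omega, fun p hp' => ?_⟩
      rcases mem_insert.mp hp' with rfl | hp'
      · exact ⟨mem_insert_of_mem hi, mem_insert_self _ _, hlt, h.pos⟩
      · obtain ⟨a, b, c, d⟩ := hp p hp'
        exact ⟨mem_insert_of_mem a, mem_insert_of_mem b, c, d⟩
    · refine ⟨insert j s, insert (j, i) E, by rw [card_insert_of_notMem hj, hs],
        by rw [card_insert_of_notMem (hnew _ (.inl rfl))]; omega, fun p hp' => ?_⟩
      rcases mem_insert.mp hp' with rfl | hp'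
      · exact ⟨mem_insert_self _ _, mem_insert_of_mem hi, hlt, h.symm.pos⟩
      · obtain ⟨a, b, c, d⟩ := hp p hp'
        exact ⟨mem_insert_of_mem a, mem_insert_of_mem b, c, d⟩

theorem card_le_edgeCount_succ : n ≤ T.edgeCount + 1 := by
  obtain ⟨s, E, -, hE, hp⟩ := exists_edges_ge T n T.pos le_rfl
  refine hE.trans (Nat.add_le_add_right (card_le_card fun p hp' => ?_) 1)
  obtain ⟨-, -, c, d⟩ := hp p hp'
  simp [c, d]

theorem topGenus_nonneg : 0 ≤ T.topGenus := by
  have := card_le_edgeCount_succ T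
  unfold Models.NumericalType.topGenus
  omega

theorem topGenus_le_genus (hmin : T.IsMinimal) (hn : 1 < n) : T.topGenus ≤ T.genus := by
  classical
  choose s hs1 hsa using exists_diag_mult T hn
  -- each contribution dominates `s i - 2`
  have hcon : ∀ i, s i - 2 ≤ contrib T i := by
    intro i
    have hne := hmin i
    have hc : contrib T i = (T.m i * T.w i) * (2 * T.g i + s i - 2) := by
      unfold contrib; rw [hsa]; ring
    have hnn : 0 ≤ 2 * T.g i + s i - 2 := by
      by_contra h
      have := T.g_nonneg i; have := hs1 i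
      exact hne ⟨by omega, by rw [hsa, show s i = 1 by omega, mul_one]⟩
    have hmw : 1 ≤ T.m i * T.w i := mul_pos (T.m_pos i) (T.w_pos i)
    have h2 := mul_le_mul_of_nonneg_right hmw hnn
    have := T.g_nonneg i
    rw [one_mul] at h2
    omega
  -- the sum of the `s i` dominates twice the number of edges
  set E := univ.filter fun p : Fin n × Fin n => p.1 < p.2 ∧ 0 < T.a p.1 p.2 with hEdef
  have hmq : ∀ i, (0 : ℚ) < T.m i := fun i => by exact_mod_cast T.m_pos i
  have hrow : ∀ i, ∑ j ∈ univ.filter (fun j => Adj T i j), (T.m j : ℚ) / T.m i ≤ s i := by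
    intro i
    classical
    have h := row_eq (T := T) (i := i) (univ.filter (fun j => Adj T i j))
      (fun h => (mem_filter.mp h).2.ne rfl) (fun k hk => by simp [hk])
    have h2 : ∑ j ∈ univ.filter (fun j => Adj T i j), T.m j ≤ s i * T.m i := by
      have h3 : T.w i * ∑ j ∈ univ.filter (fun j => Adj T i j), T.m j ≤
          ∑ j ∈ univ.filter (fun j => Adj T i j), T.a i j * T.m j := by
        rw [Finset.mul_sum]
        exact Finset.sum_le_sum fun j hj =>
          mul_le_mul_of_nonneg_right (mem_filter.mp hj).2.le_left (T.m_pos j).le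
      rw [hsa] at h
      by_contra hc
      have := mul_lt_mul_of_pos_left (not_le.mp hc) (T.w_pos i)
      linarith
    rw [← Finset.sum_div, div_le_iff₀ (hmq i)]
    exact_mod_cast h2
  classical
  have hsum : (2 * T.edgeCount : ℚ) ≤ ∑ i, (s i : ℚ) := by
    refine le_trans ?_ (Finset.sum_le_sum fun i _ => hrow i)
    have hfib : ∑ i, ∑ j ∈ univ.filter (fun j => Adj T i j), (T.m j : ℚ) / T.m i =
        ∑ p ∈ E, ((T.m p.2 : ℚ) / T.m p.1 + (T.m p.1 : ℚ) / T.m p.2) := by
      have h1 : ∑ i, ∑ j ∈ univ.filter (fun j => Adj T i j), (T.m j : ℚ) / T.m i =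
          ∑ p ∈ E ∪ E.image Prod.swap, (T.m p.2 : ℚ) / T.m p.1 := by
        rw [Finset.sum_sigma' univ (fun i => univ.filter (fun j => Adj T i j))]
        refine Finset.sum_nbij' (fun x => (x.1, x.2)) (fun p => ⟨p.1, p.2⟩) (fun x hx => ?_)
          (fun p hp => ?_) (fun x _ => rfl) (fun p _ => rfl) (fun x _ => rfl)
        · simp only [mem_sigma, mem_filter, mem_univ, true_and] at hx
          simp only [hEdef, mem_union, mem_filter, mem_univ, true_and, mem_image, Prod.exists,
            Prod.swap_prod_mk, Prod.mk.injEq]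
          rcases lt_or_gt_of_ne hx.ne with h | h
          · exact .inl ⟨h, hx.pos⟩
          · exact .inr ⟨x.2, x.1, ⟨h, hx.symm.pos⟩, rfl, rfl⟩
        · simp only [hEdef, mem_union, mem_filter, mem_univ, true_and, mem_image, Prod.exists,
            Prod.swap_prod_mk] at hp
          simp only [mem_sigma, mem_filter, mem_univ, true_and]
          rcases hp with ⟨h, h'⟩ | ⟨a, b, ⟨h, h'⟩, rfl⟩
          · exact adj_of_pos h.ne h'
          · exact (adj_of_pos h.ne h').symm
      rw [h1, Finset.sum_union, Finset.sum_image (Prod.swap_injective.injOn), ← Finset.sum_add_distrib]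
      · rfl
      · rw [Finset.disjoint_left]
        intro p hp hp'
        simp only [hEdef, mem_filter, mem_univ, true_and, mem_image, Prod.exists, Prod.swap_prod_mk] at hp hp'
        obtain ⟨a, b, ⟨h, -⟩, rfl⟩ := hp'
        exact lt_asymm h hp.1
    rw [hfib]
    have : ∀ p ∈ E, (2 : ℚ) ≤ (T.m p.2 : ℚ) / T.m p.1 + (T.m p.1 : ℚ) / T.m p.2 := by
      intro p _
      rw [div_add_div _ _ (hmq p.1).ne' (hmq p.2).ne', le_div_iff₀ (mul_pos (hmq p.1) (hmq p.2))]
      have := sq_nonneg ((T.m p.1 : ℚ) - T.m p.2)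
      linarith
    have h3 := Finset.card_nsmul_le_sum E _ 2 this
    rw [nsmul_eq_mul, mul_comm] at h3
    exact h3
  have hs2 : 2 * (T.edgeCount : ℤ) ≤ ∑ i, s i := by exact_mod_cast hsum
  have h3 := Finset.sum_le_sum (s := univ) fun i _ => hcon i
  rw [Finset.sum_sub_distrib, Finset.sum_const, card_univ, Fintype.card_fin, nsmul_eq_mul] at h3
  have := two_genus T
  unfold Models.NumericalType.topGenus
  omega

end GrothLib.NumType
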