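import Groth.Agent.Lib.NumType.Matrix
import Mathlib.LinearAlgebra.Matrix.Rank
import Mathlib.Algebra.Field.ZMod
import Mathlib.Data.ZMod.Basic
import Mathlib.FieldTheory.Finiteness
import Mathlib.LinearAlgebra.FiniteDimensional.Lemmas
import Mathlib.Algebra.Module.Torsion.Basic
import Mathlib.SetTheory.Cardinal.Finite
import Mathlib.Data.Nat.Prime.Int

/-!
# The `ℓ`-torsion of the cokernel of an intersection matrix
-/

namespace GrothLib.NumType

open Finset Matrix

variable {n : ℕ}

/-- The edges of the graph of a matrix, each listed once. -/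
def edgeSet (A : Matrix (Fin n) (Fin n) ℤ) : Finset (Fin n × Fin n) :=
  univ.filter fun p => p.1 < p.2 ∧ 0 < A p.1 p.2

theorem torsion_coker_bound (A : Matrix (Fin n) (Fin n) ℤ)
    (m : Fin n → ℤ) (hsymm : A.IsSymm) (hA : ∀ i j, i ≠ j → 0 ≤ A i j)
    (hAm : A.mulVec m = 0) (hconn : Conn A)
    (ℓ : ℕ) (hℓ : ℓ.Prime) (hℓA : ∀ i j, A i j ≠ 0 → ¬ ((ℓ : ℤ) ∣ A i j))
    (hℓm : ∀ i, ¬ ((ℓ : ℤ) ∣ m i)) :
    Finite (Submodule.torsionBy ℤ ((Fin n → ℤ) ⧸ LinearMap.range (Matrix.mulVecLin A)) (ℓ : ℤ)) ∧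
    Nat.card (Submodule.torsionBy ℤ ((Fin n → ℤ) ⧸ LinearMap.range (Matrix.mulVecLin A)) (ℓ : ℤ))
      ≤ ℓ ^ ((edgeSet A).card + 1 - n) := by
  classical
  rcases Nat.eq_zero_or_pos n with rfl | hn
  · have : Subsingleton ((Fin 0 → ℤ) ⧸ LinearMap.range (Matrix.mulVecLin A)) :=
      (Submodule.Quotient.mk_surjective _).subsingleton
    refine ⟨inferInstance, ?_⟩
    rw [Nat.card_of_subsingleton (0 : Submodule.torsionBy ℤ _ (ℓ : ℤ))]
    exact Nat.one_le_pow _ _ hℓ.pos
  have : Fact ℓ.Prime := ⟨hℓ⟩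
  have h0 : ∀ z : ℤ, (z : ZMod ℓ) = 0 ↔ (ℓ : ℤ) ∣ z := fun z => ZMod.intCast_zmod_eq_zero_iff_dvd z ℓ
  set E := edgeSet A with hE
  -- incidence matrix
  set B : Matrix E (Fin n) (ZMod ℓ) :=
    fun p i => (if i = p.1.1 then 1 else 0) - (if i = p.1.2 then 1 else 0) with hB
  have hedge : ∀ i j, i ≠ j → A i j ≠ 0 → (i, j) ∈ E ∨ (j, i) ∈ E := by
    intro i j hij h
    have hp : 0 < A i j := lt_of_le_of_ne (hA i j hij) (Ne.symm h)
    rcases lt_or_gt_of_ne hij with h' | h'
    · exact .inl (by simp [hE, edgeSet, h', hp])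
    · exact .inr (by simp [hE, edgeSet, h', hsymm.apply i j, hp])
  -- the kernel of `B` is the constants
  have hkerB : Module.finrank (ZMod ℓ) (LinearMap.ker B.mulVecLin) ≤ 1 := by
    have hinj : Function.Injective
        ((LinearMap.proj (⟨0, hn⟩ : Fin n) : (Fin n → ZMod ℓ) →ₗ[ZMod ℓ] ZMod ℓ).comp
          (LinearMap.ker B.mulVecLin).subtype) := by
      rw [injective_iff_map_eq_zero]
      rintro ⟨y, hy⟩ h0'
      simp only [LinearMap.comp_apply, Submodule.coe_subtype, LinearMap.proj_apply] at h0'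
      simp only [LinearMap.mem_ker, Matrix.mulVecLin_apply] at hy
      have hyE : ∀ p : E, y p.1.1 = y p.1.2 := fun p => by
        have := congrFun hy p
        simp only [hB, Matrix.mulVec, dotProduct, sub_mul, Finset.sum_sub_distrib, ite_mul, one_mul,
          zero_mul, Finset.sum_ite_eq', Finset.mem_univ, if_true, Pi.zero_apply, sub_eq_zero] at this
        exact this
      have hall := hconn.univ_of_closed (fun i => y i = 0) ⟨_, h0'⟩ (fun i j hi hij => by
        rcases eq_or_ne i j with rfl | hne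
        · exact hi
        rcases hedge i j hne hij with h | h
        · rw [← hi]; exact (hyE ⟨_, h⟩).symm
        · rw [← hi]; exact hyE ⟨_, h⟩)
      ext i; exact hall i
    simpa using LinearMap.finrank_le_finrank_of_injective hinj
  set K := LinearMap.ker (Bᵀ).mulVecLin
  have hK : Module.finrank (ZMod ℓ) K ≤ E.card + 1 - n := by
    have e1 := LinearMap.finrank_range_add_finrank_ker (Bᵀ).mulVecLin
    have e2 := LinearMap.finrank_range_add_finrank_ker B.mulVecLin
    have e3 : Module.finrank (ZMod ℓ) (LinearMap.range (Bᵀ).mulVecLin) =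
        Module.finrank (ZMod ℓ) (LinearMap.range B.mulVecLin) := Matrix.rank_transpose B
    simp only [Module.finrank_pi, Fintype.card_coe, Fintype.card_fin] at e1 e2
    simp only [K]
    omega
  have : Finite K := Module.finite_of_finite (ZMod ℓ)
  -- the integral identity
  have hid : ∀ (y : Fin n → ℤ) (k : Fin n),
      (∑ p ∈ E, ((if k = p.1 then 1 else 0) - (if k = p.2 then 1 else 0)) *
        (A p.1 p.2 * (m p.2 * y p.1 - m p.1 * y p.2))) = -(m k * (A *ᵥ y) k) := by
    intro y k
    set f : Fin n → Fin n → ℤ := fun i j => A i j * (m j * y i - m i * y j) with hf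
    have hanti : ∀ i j, f j i = -f i j := fun i j => by simp only [hf, hsymm.apply i j]; ring
    have h1 : ∑ p ∈ E, ((if k = p.1 then (1 : ℤ) else 0) - (if k = p.2 then 1 else 0)) * f p.1 p.2 =
        ∑ j, f k j := by
      simp only [hE, edgeSet, Finset.sum_filter, Fintype.sum_prod_type]
      have hexp : ∀ i j, (if i < j ∧ 0 < A i j then
          ((if k = i then (1 : ℤ) else 0) - (if k = j then 1 else 0)) * f i j else 0) =
          (if k = i then (if i < j ∧ 0 < A i j then f i j else 0) else 0) -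
          (if k = j then (if i < j ∧ 0 < A i j then f i j else 0) else 0) := by
        intro i j; split_ifs <;> ring
      simp only [hexp, Finset.sum_sub_distrib]
      rw [Finset.sum_comm (γ := Fin n) (f := fun i j =>
        (if k = j then (if i < j ∧ 0 < A i j then f i j else 0) else 0))]
      simp only [Finset.sum_ite_irrel, Finset.sum_const_zero, Finset.sum_ite_eq, Finset.mem_univ, if_true,
        ← Finset.sum_sub_distrib]
      refine Finset.sum_congr rfl fun j _ => ?_
      rcases lt_trichotomy k j with h | rfl | h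
      · by_cases hp : 0 < A k j
        · simp [h, hp, Nat.lt_asymm h, lt_asymm h]
        · have : A k j = 0 := le_antisymm (not_lt.mp hp) (hA k j h.ne)
          simp [hf, this, lt_asymm h]
      · simp [hf]
      · by_cases hp : 0 < A j k
        · simp [h, hp, lt_asymm h, hanti k j]
        · have : A k j = 0 := by
            rw [hsymm.apply j k]; exact le_antisymm (not_lt.mp hp) (hA j k h.ne)
          simp [hf, this, lt_asymm h, hsymm.apply k j]
    rw [h1]
    have e : ∀ j, f k j = y k * (A k j * m j) - m k * (A k j * y j) := fun j => by simp only [hf]; ring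
    rw [Finset.sum_congr rfl fun j _ => e j, Finset.sum_sub_distrib, ← Finset.mul_sum, ← Finset.mul_sum,
      show ∑ j, A k j * m j = 0 from congrFun hAm k]
    simp [Matrix.mulVec, dotProduct]
  -- the map
  set Q := (Fin n → ℤ) ⧸ LinearMap.range (Matrix.mulVecLin A)
  have hch : ∀ q : Submodule.torsionBy ℤ Q (ℓ : ℤ), ∃ x y : Fin n → ℤ,
      Submodule.Quotient.mk x = (q : Q) ∧ A *ᵥ y = (ℓ : ℤ) • x := by
    rintro ⟨q, hq⟩
    obtain ⟨x, rfl⟩ := Submodule.Quotient.mk_surjective _ q
    rw [Submodule.mem_torsionBy_iff, ← Submodule.Quotient.mk_smul, Submodule.Quotient.mk_eq_zero] at hq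
    obtain ⟨y, hy⟩ := hq
    exact ⟨x, y, rfl, hy⟩
  choose X Y hX hY using hch
  let Φ : Submodule.torsionBy ℤ Q (ℓ : ℤ) → K := fun q =>
    ⟨fun p => ((A p.1.1 p.1.2 * (m p.1.2 * Y q p.1.1 - m p.1.1 * Y q p.1.2) : ℤ) : ZMod ℓ), by
      rw [LinearMap.mem_ker, Matrix.mulVecLin_apply]
      funext k
      simp only [Matrix.mulVec, dotProduct, Matrix.transpose_apply, hB, Pi.zero_apply]
      rw [Finset.sum_coe_sort E (fun p => ((if k = p.1 then (1 : ZMod ℓ) else 0) -
        (if k = p.2 then 1 else 0)) *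
          ((A p.1 p.2 * (m p.2 * Y q p.1 - m p.1 * Y q p.2) : ℤ) : ZMod ℓ))]
      have := congrArg (fun z : ℤ => (z : ZMod ℓ)) (hid (Y q) k)
      push_cast at this ⊢
      rw [this, hY q]
      simp⟩
  have hinj : Function.Injective Φ := by
    intro q q' hqq
    have hw : ∀ p : E, (ℓ : ℤ) ∣
        A p.1.1 p.1.2 * (m p.1.2 * (Y q p.1.1 - Y q' p.1.1) - m p.1.1 * (Y q p.1.2 - Y q' p.1.2)) := by
      intro p
      rw [← h0]
      have := congrFun (congrArg Subtype.val hqq) p
      simp only [Φ] at this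
      push_cast at this ⊢
      linear_combination this
    set d : Fin n → ℤ := Y q - Y q' with hd
    have hm0 : ∀ i, (m i : ZMod ℓ) ≠ 0 := fun i h => hℓm i ((h0 _).mp h)
    set c : ZMod ℓ := (d ⟨0, hn⟩ : ZMod ℓ) / (m ⟨0, hn⟩ : ZMod ℓ) with hc
    have hall : ∀ i, (d i : ZMod ℓ) = c * m i := by
      apply hconn.univ_of_closed
      · exact ⟨⟨0, hn⟩, (div_mul_cancel₀ _ (hm0 _)).symm⟩
      intro i j hi hij
      rcases eq_or_ne i j with rfl | hne
      · exact hi
      have key : ∀ a b : Fin n, (a, b) ∈ E →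
          (m b : ZMod ℓ) * d a = m a * d b := by
        intro a b hab
        have hA0 : A a b ≠ 0 := by
          simp only [hE, edgeSet, mem_filter] at hab; exact hab.2.2.ne'
        have := ((Nat.prime_iff_prime_int.mp hℓ).dvd_or_dvd (hw ⟨(a, b), hab⟩)).resolve_left (hℓA a b hA0)
        rw [← h0] at this
        simp only [hd, Pi.sub_apply]
        push_cast at this ⊢
        linear_combination this
      refine mul_left_cancel₀ (hm0 i) ?_
      rcases hedge i j hne hij with h | h
      · rw [← key i j h, hi]; ring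
      · rw [key j i h, hi]; ring
    obtain ⟨c', hc'⟩ := ZMod.intCast_surjective c
    have hdiv : ∀ i, (ℓ : ℤ) ∣ d i - c' * m i := fun i => by
      rw [← h0]; push_cast; rw [hall i, hc']; ring
    choose z hz using hdiv
    have hdz : d = c' • m + (ℓ : ℤ) • z := funext fun i => by
      simp only [Pi.add_apply, Pi.smul_apply, smul_eq_mul]; have := hz i; linarith
    apply Subtype.ext
    rw [← hX q, ← hX q', Submodule.Quotient.eq]
    refine ⟨z, ?_⟩
    have e : A *ᵥ d = (ℓ : ℤ) • (X q - X q') := by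
      rw [hd, Matrix.mulVec_sub, hY, hY, smul_sub]
    rw [hdz, Matrix.mulVec_add, Matrix.mulVec_smul, hAm, smul_zero, zero_add, Matrix.mulVec_smul] at e
    rw [Matrix.mulVecLin_apply]
    exact smul_right_injective (Fin n → ℤ) (show (ℓ : ℤ) ≠ 0 by exact_mod_cast hℓ.ne_zero) e
  refine ⟨Finite.of_injective Φ hinj, (Nat.card_le_card_of_injective Φ hinj).trans ?_⟩
  rw [Module.natCard_eq_pow_finrank (K := ZMod ℓ), Nat.card_zmod]
  exact Nat.pow_le_pow_right hℓ.pos hK

end GrothLib.NumType
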